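import Mathlib.Data.Real.Basic
import Mathlib.Algebra.Algebra.Rat
import Mathlib.LinearAlgebra.Basis.VectorSpace
import Mathlib.LinearAlgebra.LinearIndependent.Basic
import Mathlib.LinearAlgebra.Matrix.ToLin
import Mathlib.Topology.Instances.Real.Lemmas
import Mathlib.Topology.Algebra.Monoid
import Mathlib.Tactic.Linarith
import Mathlib.Tactic.Positivity
import Mathlib.Topology.Constructions

/-!
# Rational cones: nonnegative real solutions of integral linear equations
-/

noncomputable section

namespace Groth.Agent.Lib.Fans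

open scoped BigOperators

variable {m b : Type*}

/-- The real vector of an integer vector. -/
abbrev rv (w : b → ℤ) : b → ℝ := fun i => (w i : ℝ)

/-- A rational vector has an integer multiple. -/
lemma exists_int_mul [Finite b] (q : b → ℚ) : ∃ (N : ℕ) (z : b → ℤ), 0 < N ∧ ∀ i, (z i : ℚ) = N * q i := by
  classical
  have := Fintype.ofFinite b
  refine ⟨∏ i, (q i).den, fun i => (∏ j ∈ Finset.univ.erase i, (q j).den : ℕ) * (q i).num,
    Finset.prod_pos fun i _ => (q i).pos, fun i => ?_⟩
  rw [← Finset.mul_prod_erase Finset.univ (fun j => (q j).den) (Finset.mem_univ i)]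
  push_cast
  rw [mul_comm ((q i).den : ℚ), mul_assoc]
  congr 1
  rw [mul_comm, Rat.mul_den_eq_num]

variable [Fintype b]

/-- A real solution of rational equations is a real combination of integral solutions with the same
zero coordinates. -/
theorem exists_int_span (A : m → b → ℤ) (x : b → ℝ) (hx : ∀ l, ∑ i, (A l i : ℝ) * x i = 0) :
    ∃ (n : ℕ) (c : Fin n → ℝ) (z : Fin n → b → ℤ), x = ∑ j, c j • rv (z j) ∧
      ∀ j, (∀ l, ∑ i, A l i * z j i = 0) ∧ ∀ i, x i = 0 → z j i = 0 := by
  classical
  let B := Module.Basis.ofVectorSpace ℚ ℝ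
  let J : Finset _ := Finset.univ.biUnion fun i => (B.repr (x i)).support
  let q : _ → b → ℚ := fun j i => B.repr (x i) j
  choose N z hN hz using fun j => exists_int_mul (q j)
  have hsum : x = ∑ j ∈ J, (B j / (N j : ℝ)) • rv (z j) := by
    funext i
    have h1 : x i = ∑ j ∈ J, (B.repr (x i) j) • B j := by
      conv_lhs => rw [← B.linearCombination_repr (x i)]
      rw [Finsupp.linearCombination_apply, Finsupp.sum]
      exact Finset.sum_subset (fun j hj => Finset.mem_biUnion.2 ⟨i, Finset.mem_univ i, hj⟩)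
        fun j _ hj => by rw [Finsupp.notMem_support_iff.1 hj, zero_smul]
    rw [h1, Finset.sum_apply]
    refine Finset.sum_congr rfl fun j _ => ?_
    rw [Pi.smul_apply, smul_eq_mul, Rat.smul_def]
    have : (z j i : ℝ) = (N j : ℝ) * (B.repr (x i) j : ℝ) := by
      exact_mod_cast hz j i
    rw [rv, this]
    field_simp [(Nat.cast_ne_zero (R := ℝ)).2 (hN j).ne']
  refine ⟨J.card, fun j => B (J.equivFin.symm j).1 / (N (J.equivFin.symm j).1 : ℝ),
    fun j => z (J.equivFin.symm j).1, ?_, fun j => ⟨fun l => ?_, fun i hi => ?_⟩⟩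
  · conv_lhs => rw [hsum, ← Finset.sum_coe_sort]
    exact (Fintype.sum_equiv J.equivFin.symm _ _ fun j => rfl).symm
  · have h := congrArg (fun y => B.repr y (J.equivFin.symm j).1) (hx l)
    simp only [map_sum, map_zero, Finsupp.finsetSum_apply, Finsupp.zero_apply] at h
    have e : ∀ i, B.repr ((A l i : ℝ) * x i) (J.equivFin.symm j).1 = (A l i : ℚ) * q (J.equivFin.symm j).1 i := by
      intro i
      rw [show (A l i : ℝ) * x i = (A l i : ℚ) • x i by rw [Rat.smul_def, Rat.cast_intCast],
        map_smul, Finsupp.smul_apply, smul_eq_mul]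
    simp only [e] at h
    have : ((∑ i, A l i * z (J.equivFin.symm j).1 i : ℤ) : ℚ) = 0 := by
      push_cast
      rw [Finset.sum_congr rfl fun i _ => by rw [hz, mul_left_comm], ← Finset.mul_sum, h, mul_zero]
    exact_mod_cast this
  · have : (z (J.equivFin.symm j).1 i : ℚ) = 0 := by simp [hz, q, hi]
    exact_mod_cast this

/-- A nonnegative real solution is a positive combination of nonnegative integral solutions. -/
theorem exists_pos_combination (A : m → b → ℤ) : ∀ (x : b → ℝ), (∀ i, 0 ≤ x i) →
    (∀ l, ∑ i, (A l i : ℝ) * x i = 0) →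
    ∃ (n : ℕ) (c : Fin n → ℝ) (w : Fin n → b → ℤ), (∀ j, 0 < c j) ∧ (∀ j i, 0 ≤ w j i) ∧
      (∀ j l, ∑ i, A l i * w j i = 0) ∧ x = ∑ j, c j • rv (w j) := by
  classical
  intro x
  generalize hN : (Finset.univ.filter fun i => x i ≠ 0).card = N
  induction N using Nat.strong_induction_on generalizing x with
  | _ N ih =>
    intro hx0 hx
    by_cases hzero : x = 0
    · exact ⟨0, Fin.elim0, Fin.elim0, fun j => j.elim0, fun j => j.elim0, fun j => j.elim0, by simp [hzero]⟩
    obtain ⟨n, c, z, hcz, hz⟩ := exists_int_span A x hx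
    -- perturb the coefficients to rationals
    have hopen : IsOpen {d : Fin n → ℝ | ∀ i, x i ≠ 0 → 0 < ∑ j, d j * (z j i : ℝ)} := by
      simp only [Set.ofPred_forall]
      exact isOpen_iInter_of_finite fun i => isOpen_iInter_of_finite fun _ =>
        isOpen_lt continuous_const (continuous_finsetSum _ fun j _ => (continuous_apply j).mul continuous_const)
    have hc : c ∈ {d : Fin n → ℝ | ∀ i, x i ≠ 0 → 0 < ∑ j, d j * (z j i : ℝ)} := by
      intro i hi
      have := congrFun hcz i
      simp only [Finset.sum_apply, Pi.smul_apply, smul_eq_mul] at this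
      rw [← this]
      exact lt_of_le_of_ne (hx0 i) (Ne.symm hi)
    obtain ⟨d, hd⟩ := ((DenseRange.piMap fun _ : Fin n => Rat.denseRange_cast (𝕜 := ℝ))).exists_mem_open hopen ⟨c, hc⟩
    obtain ⟨M, v, hM, hv⟩ := exists_int_mul d
    let w : b → ℤ := fun i => ∑ j, v j * z j i
    have hwA : ∀ l, ∑ i, A l i * w i = 0 := by
      intro l
      simp only [w, Finset.mul_sum]
      rw [Finset.sum_comm]
      refine Finset.sum_eq_zero fun j _ => ?_
      rw [Finset.sum_congr rfl fun i _ => mul_left_comm _ _ _, ← Finset.mul_sum, (hz j).1 l, mul_zero]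
    have hwpos : ∀ i, x i ≠ 0 → 0 < w i := by
      intro i hi
      have h1 := hd i hi
      simp only [Pi.map] at h1
      have hveq : ∀ j, (v j : ℝ) = M * (d j : ℝ) := fun j => by exact_mod_cast hv j
      have : (0 : ℝ) < (w i : ℝ) := by
        simp only [w]
        push_cast
        simp only [hveq, mul_assoc, ← Finset.mul_sum]
        positivity
      exact_mod_cast this
    have hw0 : ∀ i, x i = 0 → w i = 0 := fun i hi => by
      simp only [w]
      exact Finset.sum_eq_zero fun j _ => by rw [(hz j).2 i hi, mul_zero]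
    have hwnn : ∀ i, 0 ≤ w i := fun i => by
      by_cases hi : x i = 0
      · rw [hw0 i hi]
      · exact (hwpos i hi).le
    have hne : (Finset.univ.filter fun i => x i ≠ 0).Nonempty := by
      obtain ⟨i, hi⟩ := Function.ne_iff.1 hzero
      exact ⟨i, by simpa using hi⟩
    obtain ⟨i₀, hi₀, hmin⟩ := Finset.exists_min_image _ (fun i => x i / (w i : ℝ)) hne
    simp only [Finset.mem_filter, Finset.mem_univ, true_and] at hi₀ hmin
    set t := x i₀ / (w i₀ : ℝ) with ht
    have htpos : 0 < t := div_pos (lt_of_le_of_ne (hx0 i₀) (Ne.symm hi₀)) (by exact_mod_cast hwpos i₀ hi₀)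
    set x' : b → ℝ := fun i => x i - t * (w i : ℝ) with hx'
    have hx'0 : ∀ i, 0 ≤ x' i := fun i => by
      by_cases hi : x i = 0
      · simp [hx', hi, hw0 i hi]
      · have := hmin i hi
        rw [le_div_iff₀ (by exact_mod_cast hwpos i hi : (0 : ℝ) < w i)] at this
        simp only [hx']
        linarith
    have hlt : (Finset.univ.filter fun i => x' i ≠ 0).card < N := by
      rw [← hN]
      refine Finset.card_lt_card ⟨fun i hi => ?_, fun h => ?_⟩
      · simp only [Finset.mem_filter, Finset.mem_univ, true_and] at hi ⊢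
        exact fun h => hi (by simp [hx', h, hw0 i h])
      · have := h (x := i₀) (by simpa using hi₀)
        simp only [Finset.mem_filter, Finset.mem_univ, true_and] at this
        refine this ?_
        simp only [hx', ht]
        rw [div_mul_cancel₀ _ (by exact_mod_cast (hwpos i₀ hi₀).ne'), sub_self]
    obtain ⟨k, e, u, he, hu, huA, hsum⟩ := ih _ hlt x' rfl hx'0 (fun l => by
      have hwl : ∑ i, (A l i : ℝ) * (w i : ℝ) = 0 := by exact_mod_cast hwA l
      simp only [hx', mul_sub, Finset.sum_sub_distrib, mul_left_comm _ t, ← Finset.mul_sum, hx l, hwl, mul_zero,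
        sub_self])
    refine ⟨k + 1, Fin.cons t e, Fin.cons w u, Fin.cases (by simpa) (by simpa), Fin.cases (by simpa) (by simpa),
      Fin.cases (by simpa) (by simpa), ?_⟩
    rw [Fin.sum_univ_succ]
    simp only [Fin.cons_zero, Fin.cons_succ, ← hsum]
    funext i
    simp [hx', rv]

/-- Carathéodory for cones: the vectors may be taken linearly independent. -/
theorem exists_indep_combination {M : Type*} [AddCommGroup M] [Module ℝ M] {n : ℕ} (u : Fin n → M)
    (c : Fin n → ℝ) (hc : ∀ j, 0 ≤ c j) :
    ∃ s : Finset (Fin n), LinearIndependent ℝ (fun j : s => u j) ∧ ∃ d : Fin n → ℝ,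
      (∀ j ∈ s, 0 < d j) ∧ ∑ j ∈ s, d j • u j = ∑ j, c j • u j := by
  classical
  generalize hN : (Finset.univ.filter fun j => c j ≠ 0).card = N
  induction N using Nat.strong_induction_on generalizing c with
  | _ N ih =>
    set s := Finset.univ.filter fun j => c j ≠ 0 with hs
    by_cases hli : LinearIndependent ℝ (fun j : s => u j)
    · refine ⟨s, hli, c, fun j hj => lt_of_le_of_ne (hc j) (Ne.symm (Finset.mem_filter.1 hj).2), ?_⟩
      exact Finset.sum_subset (Finset.subset_univ s) fun j _ hj => by
        have : c j = 0 := by simpa [hs] using hj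
        simp [this]
    obtain ⟨g, hg, j₁, hj₁⟩ := Fintype.not_linearIndependent_iff.1 hli
    let r : Fin n → ℝ := fun j => if h : j ∈ s then g ⟨j, h⟩ else 0
    have hr : ∑ j, r j • u j = 0 := by
      rw [← hg, ← Finset.sum_subset (Finset.subset_univ s) (fun j _ hj => by simp [r, dif_neg hj]),
        ← Finset.sum_coe_sort]
      exact Finset.sum_congr rfl fun j _ => by simp [r]
    have hr₁ : r j₁.1 ≠ 0 := by simpa [r, j₁.2] using hj₁
    obtain ⟨r, hr, hr0, j₂, hj₂⟩ : ∃ r : Fin n → ℝ, ∑ j, r j • u j = 0 ∧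
        (∀ j ∉ s, r j = 0) ∧ ∃ j, 0 < r j := by
      rcases lt_or_gt_of_ne hr₁ with h | h
      · exact ⟨fun j => -r j, by simp [neg_smul, hr], fun j hj => by simp [r, dif_neg hj], j₁.1, by linarith⟩
      · exact ⟨r, hr, fun j hj => by simp [r, dif_neg hj], j₁.1, h⟩
    obtain ⟨j₀, hj₀, hmin⟩ := Finset.exists_min_image (Finset.univ.filter fun j => 0 < r j)
      (fun j => c j / r j) ⟨j₂, by simpa using hj₂⟩
    simp only [Finset.mem_filter, Finset.mem_univ, true_and] at hj₀ hmin
    set t := c j₀ / r j₀
    have ht : 0 ≤ t := div_nonneg (hc j₀) hj₀.le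
    set c' : Fin n → ℝ := fun j => c j - t * r j with hc'
    have hc'0 : ∀ j, 0 ≤ c' j := fun j => by
      rcases le_or_gt (r j) 0 with h | h
      · have := mul_nonpos_of_nonneg_of_nonpos ht h
        simp only [hc']
        linarith [hc j]
      · have := hmin j h
        rw [le_div_iff₀ h] at this
        simp only [hc']
        linarith
    have hlt : (Finset.univ.filter fun j => c' j ≠ 0).card < N := by
      rw [← hN]
      refine Finset.card_lt_card ⟨fun j hj => ?_, fun h => ?_⟩
      · by_contra hjs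
        simp only [Finset.mem_filter, Finset.mem_univ, true_and] at hj
        refine hj ?_
        have : c j = 0 := by simpa [hs] using hjs
        simp [hc', this, hr0 j hjs]
      · have hj₀s : j₀ ∈ s := by_contra fun hh => hj₀.ne' (hr0 j₀ hh)
        have := h hj₀s
        simp only [Finset.mem_filter, Finset.mem_univ, true_and] at this
        refine this ?_
        simp only [hc']
        rw [div_mul_cancel₀ _ hj₀.ne', sub_self]
    obtain ⟨s', hs', d, hd, hsum⟩ := ih _ hlt c' hc'0 rfl
    refine ⟨s', hs', d, hd, hsum.trans ?_⟩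
    simp only [hc', sub_smul, Finset.sum_sub_distrib, mul_smul, ← Finset.smul_sum, hr, smul_zero, sub_zero]

/-- A nonnegative real solution lies in the cone over independent nonnegative integral solutions. -/
theorem exists_simplicial (A : m → b → ℤ) (x : b → ℝ) (hx0 : ∀ i, 0 ≤ x i)
    (hx : ∀ l, ∑ i, (A l i : ℝ) * x i = 0) :
    ∃ (n : ℕ) (c : Fin n → ℝ) (w : Fin n → b → ℤ), (∀ j, 0 < c j) ∧ (∀ j i, 0 ≤ w j i) ∧
      (∀ j l, ∑ i, A l i * w j i = 0) ∧ LinearIndependent ℝ (fun j => rv (w j)) ∧
      x = ∑ j, c j • rv (w j) := by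
  classical
  obtain ⟨N, c, w, hc, hw, hwA, rfl⟩ := exists_pos_combination A x hx0 hx
  obtain ⟨s, hs, d, hd, hsum⟩ := exists_indep_combination (fun j => rv (w j)) c (fun j => (hc j).le)
  refine ⟨s.card, fun j => d (s.equivFin.symm j), fun j => w (s.equivFin.symm j),
    fun j => hd _ (s.equivFin.symm j).2, fun j => hw _, fun j => hwA _,
    hs.comp _ s.equivFin.symm.injective, ?_⟩
  rw [← hsum, ← Finset.sum_coe_sort]
  exact (Fintype.sum_equiv s.equivFin.symm _ _ fun j => rfl).symm

end Groth.Agent.Lib.Fans
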