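import Groth.Prelude.Def_W4c6instabfans3Fan
import Groth.Agent.Lib.Fans.Lin
import Mathlib.LinearAlgebra.Pi
import Mathlib.LinearAlgebra.Finsupp.LinearCombination

/-!
# Formal fans: cone morphisms on real vectors, equality of points of the realization
-/

open CategoryTheory Opposite
open scoped BigOperators

noncomputable section

universe u

namespace Groth.Agent.Lib.Fans

open Instab

variable {k n m l : ICone}

/-- The real linear map of a cone morphism. -/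
def rlin (φ : k ⟶ n) : (Fin k.dim → ℝ) →ₗ[ℝ] (Fin n.dim → ℝ) where
  toFun := φ.realMap
  map_add' x y := by
    funext j
    simp [ICone.Hom.realMap, mul_add, Finset.sum_add_distrib]
  map_smul' c x := by
    funext j
    simp [ICone.Hom.realMap, Finset.mul_sum, mul_left_comm]

@[simp] lemma rlin_apply (φ : k ⟶ n) (x : Fin k.dim → ℝ) : rlin φ x = φ.realMap x := rfl

lemma toLin_apply_eq_sum (φ : k ⟶ n) (w : Fin k.dim → ℤ) (j : Fin n.dim) :
    φ.toLin w j = ∑ i, φ.toLin (Pi.single i 1) j * w i := by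
  have hw : w = ∑ i, w i • (Pi.single i 1 : Fin k.dim → ℤ) := by
    funext t
    simp [Pi.single_apply]
  conv_lhs => rw [hw]
  simp only [map_sum, map_smul, Finset.sum_apply, Pi.smul_apply, smul_eq_mul, mul_comm (w _)]

/-- The real extension of a map of lattices. -/
def rext {d N : ℕ} (f : (Fin d → ℤ) →ₗ[ℤ] (Fin N → ℤ)) : (Fin d → ℝ) →ₗ[ℝ] (Fin N → ℝ) where
  toFun v j := ∑ i, (f (Pi.single i 1) j : ℝ) * v i
  map_add' x y := by
    funext j
    simp [mul_add, Finset.sum_add_distrib]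
  map_smul' c x := by
    funext j
    simp [Finset.mul_sum, mul_left_comm]

lemma rext_apply {d N : ℕ} (f : (Fin d → ℤ) →ₗ[ℤ] (Fin N → ℤ)) (v : Fin d → ℝ) (j : Fin N) :
    rext f v j = ∑ i, (f (Pi.single i 1) j : ℝ) * v i := rfl

lemma apply_eq_sum {d N : ℕ} (f : (Fin d → ℤ) →ₗ[ℤ] (Fin N → ℤ)) (w : Fin d → ℤ) (j : Fin N) :
    f w j = ∑ i, f (Pi.single i 1) j * w i := by
  have hw : w = ∑ i, w i • (Pi.single i 1 : Fin d → ℤ) := by
    funext t
    simp [Pi.single_apply]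
  conv_lhs => rw [hw]
  simp only [map_sum, map_smul, Finset.sum_apply, Pi.smul_apply, smul_eq_mul, mul_comm (w _)]

lemma rext_rv {d N : ℕ} (f : (Fin d → ℤ) →ₗ[ℤ] (Fin N → ℤ)) (w : Fin d → ℤ) :
    rext f (rv w) = rv (f w) := by
  funext j
  change _ = ((f w j : ℤ) : ℝ)
  rw [apply_eq_sum]
  simp [rext_apply, rv]

lemma rext_injective {d N : ℕ} {f : (Fin d → ℤ) →ₗ[ℤ] (Fin N → ℤ)} (hf : Function.Injective f) :
    Function.Injective (rext f) := by
  refine (injective_iff_map_eq_zero _).2 fun x hx => ?_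
  obtain ⟨e, c, z, rfl, hz⟩ := exists_int_span (fun j i => f (Pi.single i 1) j) x
    (fun j => congrFun hx j)
  refine Finset.sum_eq_zero fun a _ => ?_
  have : z a = 0 := hf (by
    rw [map_zero]
    funext j
    rw [apply_eq_sum]
    exact (hz a).1 j)
  rw [this]
  funext i
  simp [rv]

lemma realMap_rv (φ : k ⟶ n) (w : Fin k.dim → ℤ) : φ.realMap (rv w) = rv (φ.toLin w) := by
  funext j
  change _ = ((φ.toLin w j : ℤ) : ℝ)
  rw [toLin_apply_eq_sum]
  simp [ICone.Hom.realMap, rv]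

lemma realMap_single (φ : k ⟶ n) (i : Fin k.dim) :
    φ.realMap (Pi.single i 1) = rv (φ.toLin (Pi.single i 1)) := by
  rw [← realMap_rv]
  congr 1
  funext j
  simp [rv, Pi.single_apply, apply_ite (Int.cast : ℤ → ℝ)]

lemma linearMap_ext_single {M : Type*} [AddCommGroup M] [Module ℝ M] {d : ℕ}
    {f g : (Fin d → ℝ) →ₗ[ℝ] M} (h : ∀ i, f (Pi.single i 1) = g (Pi.single i 1)) : f = g := by
  refine LinearMap.pi_ext fun i x => ?_
  have : (Pi.single i x : Fin d → ℝ) = x • Pi.single i 1 := by simp [← Pi.single_smul]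
  rw [this, map_smul, map_smul, h]

lemma rlin_comp (φ : k ⟶ n) (ψ : n ⟶ m) : rlin (φ ≫ ψ) = (rlin ψ).comp (rlin φ) := by
  refine linearMap_ext_single fun i => ?_
  simp only [rlin_apply, LinearMap.comp_apply, realMap_single, realMap_rv]
  rfl

lemma realMap_comp (φ : k ⟶ n) (ψ : n ⟶ m) (x : Fin k.dim → ℝ) :
    (φ ≫ ψ).realMap x = ψ.realMap (φ.realMap x) := LinearMap.congr_fun (rlin_comp φ ψ) x

@[simp] lemma realMap_id (x : Fin k.dim → ℝ) : (𝟙 k : k ⟶ k).realMap x = x := by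
  have : rlin (𝟙 k) = LinearMap.id := linearMap_ext_single fun i => by
    rw [rlin_apply, realMap_single, LinearMap.id_apply]
    funext j
    change (((Pi.single i 1 : Fin k.dim → ℤ) j : ℤ) : ℝ) = _
    simp [Pi.single_apply]
  exact LinearMap.congr_fun this x

lemma realMap_smul (φ : k ⟶ n) (c : ℝ) (x : Fin k.dim → ℝ) : φ.realMap (c • x) = c • φ.realMap x :=
  map_smul (rlin φ) c x

lemma realMap_nonneg (φ : k ⟶ n) {x : Fin k.dim → ℝ} (hx : ∀ i, 0 ≤ x i) (j : Fin n.dim) :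
    0 ≤ φ.realMap x j :=
  Finset.sum_nonneg fun i _ => mul_nonneg (by
    exact_mod_cast φ.nonneg (Pi.single i 1) (fun i' => by
      by_cases h : i' = i <;> simp [h]) j) (hx i)

lemma rlin_injective (φ : k ⟶ n) : Function.Injective (rlin φ) := by
  refine (injective_iff_map_eq_zero _).2 fun x hx => ?_
  obtain ⟨d, c, z, rfl, hz⟩ := exists_int_span (fun j i => φ.toLin (Pi.single i 1) j) x
    (fun j => congrFun hx j)
  refine Finset.sum_eq_zero fun a _ => ?_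
  have : z a = 0 := φ.injective (by
    rw [map_zero]
    funext j
    rw [toLin_apply_eq_sum]
    exact (hz a).1 j)
  rw [this]
  funext i
  simp [rv]

lemma realMap_injective (φ : k ⟶ n) : Function.Injective φ.realMap := rlin_injective φ

/-- Points of the orthant are equal when their vectors are. -/
@[ext] lemma orth_ext {v w : Fan.Orth n} (h : v.1 = w.1) : v = w := Subtype.ext h

/-- The map of punctured orthants of a cone morphism. -/
def omap (φ : k ⟶ n) (v : Fan.Orth k) : Fan.Orth n :=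
  ⟨φ.realMap v.1, realMap_nonneg φ v.2.1, fun h => v.2.2 (rlin_injective φ (h.trans (map_zero _).symm))⟩

@[simp] lemma omap_val (φ : k ⟶ n) (v : Fan.Orth k) : (omap φ v).1 = φ.realMap v.1 := rfl

lemma omap_injective (φ : k ⟶ n) : Function.Injective (omap φ) := fun _ _ h =>
  orth_ext (realMap_injective φ (congrArg Subtype.val h))

lemma omap_comp (φ : k ⟶ n) (ψ : n ⟶ m) (v : Fan.Orth k) : omap (φ ≫ ψ) v = omap ψ (omap φ v) :=
  orth_ext (realMap_comp φ ψ v.1)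

@[simp] lemma omap_id (v : Fan.Orth k) : omap (𝟙 k) v = v := orth_ext (realMap_id v.1)

/-- Positive rescaling. -/
def scl (c : ℝ) (hc : 0 < c) (v : Fan.Orth n) : Fan.Orth n :=
  ⟨c • v.1, fun i => mul_nonneg hc.le (v.2.1 i), smul_ne_zero hc.ne' v.2.2⟩

@[simp] lemma scl_val (c : ℝ) (hc : 0 < c) (v : Fan.Orth n) : (scl c hc v).1 = c • v.1 := rfl

lemma omap_scl (φ : k ⟶ n) (c : ℝ) (hc : 0 < c) (v : Fan.Orth k) :
    omap φ (scl c hc v) = scl c hc (omap φ v) := orth_ext (realMap_smul φ c v.1)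

variable {F G : Fan.{u}}

lemma map_comp_apply (φ : k ⟶ n) (ψ : n ⟶ m) (ξ : F.obj (op m)) :
    F.map (φ ≫ ψ).op ξ = F.map φ.op (F.map ψ.op ξ) := by
  simp [op_comp, Functor.map_comp]

lemma map_id_apply (ξ : F.obj (op n)) : F.map (𝟙 n).op ξ = ξ := by simp

lemma mk_glue (φ : k ⟶ n) (ξ : F.obj (op n)) (v : Fan.Orth k) :
    Fan.P.mk (F.map φ.op ξ) v = Fan.P.mk ξ (omap φ v) :=
  Quot.sound (Fan.Rel.glue φ ξ v (omap φ v) 1 one_pos (one_smul ℝ _).symm)

lemma mk_eq_of_smul {ξ : F.obj (op n)} {v w : Fan.Orth n} {c : ℝ} (hc : 0 < c) (h : w.1 = c • v.1) :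
    Fan.P.mk ξ v = Fan.P.mk ξ w := by
  have := Fan.Rel.glue (𝟙 n) ξ v w c hc (by rw [realMap_id, h])
  rw [map_id_apply] at this
  exact Quot.sound this

lemma mk_scl (ξ : F.obj (op n)) (c : ℝ) (hc : 0 < c) (v : Fan.Orth n) :
    Fan.P.mk ξ (scl c hc v) = Fan.P.mk ξ v := (mk_eq_of_smul hc rfl).symm

lemma exists_rep (x : Fan.P F) : ∃ (n : ICone) (ξ : F.obj (op n)) (v : Fan.Orth n), Fan.P.mk ξ v = x := by
  obtain ⟨⟨⟨n, ξ⟩, v⟩, rfl⟩ := Quot.exists_rep x
  exact ⟨n, ξ, v, rfl⟩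

@[simp] lemma map_mk (f : F ⟶ G) (ξ : F.obj (op n)) (v : Fan.Orth n) :
    Fan.P.map f (Fan.P.mk ξ v) = Fan.P.mk (f.app _ ξ) v := rfl

lemma map_map {H : Fan.{u}} (f : F ⟶ G) (g : G ⟶ H) (x : Fan.P F) :
    Fan.P.map g (Fan.P.map f x) = Fan.P.map (f ≫ g) x := by
  obtain ⟨n, ξ, v, rfl⟩ := exists_rep x
  rfl

/-- The cone morphism with prescribed columns. -/
def homOf {p : ℕ+} (k : ICone) (a : Fin p → Fin k.dim → ℤ) (hnn : ∀ i j, 0 ≤ a i j)
    (hli : LinearIndependent ℝ fun i => rv (a i)) : (⟨p⟩ : ICone) ⟶ k where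
  toLin := Fintype.linearCombination ℤ a
  injective := by
    refine (injective_iff_map_eq_zero _).2 fun z hz => ?_
    have h0 : ∑ i, (z i : ℝ) • rv (a i) = 0 := by
      funext j
      have := congrArg (fun t : ℤ => (t : ℝ)) (congrFun hz j)
      simpa [Fintype.linearCombination_apply, rv] using this
    funext i
    exact_mod_cast Fintype.linearIndependent_iff.1 hli (fun i => (z i : ℝ)) h0 i
  nonneg v hv j := by
    rw [Fintype.linearCombination_apply, Finset.sum_apply]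
    exact Finset.sum_nonneg fun i _ => mul_nonneg (hv i) (hnn i j)

lemma homOf_single {p : ℕ+} (k : ICone) (a : Fin p → Fin k.dim → ℤ) (hnn : ∀ i j, 0 ≤ a i j)
    (hli : LinearIndependent ℝ fun i => rv (a i)) (i : Fin p) :
    (homOf k a hnn hli).toLin (Pi.single i 1) = a i :=
  (Fintype.linearCombination_apply_single (R := ℤ) (v := a) i 1).trans (one_smul ℤ _)

lemma hom_ext_single {f g : k ⟶ n} (h : ∀ i, f.toLin (Pi.single i 1) = g.toLin (Pi.single i 1)) :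
    f = g := by
  refine ICone.Hom.ext (LinearMap.pi_ext fun i x => ?_)
  have : (Pi.single i x : Fin k.dim → ℤ) = x • Pi.single i 1 := by simp [← Pi.single_smul]
  rw [this, map_smul, map_smul, h]

/-- Two points of subcones with the same image lie in a common subcone, for any ambient lattice. -/
theorem exists_common_lattice {N : ℕ} (φ : (Fin k.dim → ℤ) →ₗ[ℤ] (Fin N → ℤ))
    (hφ : Function.Injective φ) (ψ : (Fin m.dim → ℤ) →ₗ[ℤ] (Fin N → ℤ)) (hψ : Function.Injective ψ)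
    (y : Fan.Orth k) (z : Fan.Orth m) (h : rext φ y.1 = rext ψ z.1) :
    ∃ (p : ICone) (κ : p ⟶ k) (κ' : p ⟶ m) (w : Fan.Orth p),
      φ.comp κ.toLin = ψ.comp κ'.toLin ∧ omap κ w = y ∧ omap κ' w = z := by
  classical
  let A : Fin N → (Fin k.dim ⊕ Fin m.dim) → ℤ := fun j =>
    Sum.elim (fun i => φ (Pi.single i 1) j) (fun i => -ψ (Pi.single i 1) j)
  obtain ⟨p, c, w, hc, hw, hwA, hli, hsum⟩ := exists_simplicial A (Sum.elim y.1 z.1)
    (by
      rintro (i | i)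
      · exact y.2.1 i
      · exact z.2.1 i)
    (fun j => by
      have := congrFun h j
      simp only [rext_apply] at this
      simp [Fintype.sum_sum_type, A, this])
  have hp : 0 < p := by
    rcases Nat.eq_zero_or_pos p with rfl | hp
    · refine absurd ?_ y.2.2
      funext i
      simpa using congrFun hsum (Sum.inl i)
    · exact hp
  let a : Fin p → Fin k.dim → ℤ := fun t i => w t (Sum.inl i)
  let b : Fin p → Fin m.dim → ℤ := fun t i => w t (Sum.inr i)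
  have hab : ∀ t, φ (a t) = ψ (b t) := fun t => by
    funext j
    have := hwA t j
    simp [Fintype.sum_sum_type, A] at this
    rw [apply_eq_sum, apply_eq_sum]
    linarith
  have habR : ∀ r : Fin p → ℝ,
      rext φ (∑ t, r t • rv (a t)) = rext ψ (∑ t, r t • rv (b t)) := fun r => by
    rw [map_sum, map_sum]
    simp only [map_smul, rext_rv, hab]
  have hcomb : ∀ r : Fin p → ℝ, ∑ t, r t • rv (w t) = Sum.elim (∑ t, r t • rv (a t)) (∑ t, r t • rv (b t)) := by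
    intro r
    funext i
    rcases i with i | i <;> simp [a, b, rv]
  have hla : LinearIndependent ℝ fun t => rv (a t) := Fintype.linearIndependent_iff.2 fun r hr t => by
    refine Fintype.linearIndependent_iff.1 hli r ?_ t
    have hb : ∑ t, r t • rv (b t) = 0 := rext_injective hψ (by rw [← habR, hr, map_zero, map_zero])
    rw [hcomb, hr, hb]
    funext i; rcases i with i | i <;> rfl
  have hlb : LinearIndependent ℝ fun t => rv (b t) := Fintype.linearIndependent_iff.2 fun r hr t => by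
    refine Fintype.linearIndependent_iff.1 hli r ?_ t
    have ha : ∑ t, r t • rv (a t) = 0 := rext_injective hφ (by rw [habR, hr, map_zero, map_zero])
    rw [hcomb, hr, ha]
    funext i; rcases i with i | i <;> rfl
  let pk : ICone := ⟨⟨p, hp⟩⟩
  let κ : pk ⟶ k := homOf (p := ⟨p, hp⟩) k a (fun t i => hw t _) hla
  let κ' : pk ⟶ m := homOf (p := ⟨p, hp⟩) m b (fun t i => hw t _) hlb
  let W : Fan.Orth pk := ⟨c, fun t => (hc t).le, fun h0 => (hc ⟨0, hp⟩).ne' (congrFun h0 ⟨0, hp⟩)⟩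
  refine ⟨pk, κ, κ', W, LinearMap.pi_ext fun i x => ?_, orth_ext ?_, orth_ext ?_⟩
  · rw [show (Pi.single i x : Fin pk.dim → ℤ) = x • Pi.single i 1 by simp [← Pi.single_smul], map_smul, map_smul]
    refine congrArg (x • ·) ?_
    change φ (κ.toLin (Pi.single i 1)) = ψ (κ'.toLin (Pi.single i 1))
    rw [show κ.toLin (Pi.single i 1) = a i from homOf_single ..,
      show κ'.toLin (Pi.single i 1) = b i from homOf_single ..]
    exact hab i
  · funext i
    have := congrFun hsum (Sum.inl i)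
    simp only [Sum.elim_inl, Finset.sum_apply, Pi.smul_apply, smul_eq_mul] at this
    rw [this, omap_val]
    refine Finset.sum_congr rfl fun t _ => ?_
    rw [show κ.toLin (Pi.single t 1) = a t from homOf_single .., mul_comm]
  · funext i
    have := congrFun hsum (Sum.inr i)
    simp only [Sum.elim_inr, Finset.sum_apply, Pi.smul_apply, smul_eq_mul] at this
    rw [this, omap_val]
    refine Finset.sum_congr rfl fun t _ => ?_
    rw [show κ'.toLin (Pi.single t 1) = b t from homOf_single .., mul_comm]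

/-- Two points of subcones with the same image lie in a common subcone. -/
theorem exists_common_sub (φ : k ⟶ n) (ψ : m ⟶ n) (y : Fan.Orth k) (z : Fan.Orth m)
    (h : φ.realMap y.1 = ψ.realMap z.1) :
    ∃ (p : ICone) (κ : p ⟶ k) (κ' : p ⟶ m) (w : Fan.Orth p),
      κ ≫ φ = κ' ≫ ψ ∧ omap κ w = y ∧ omap κ' w = z := by
  obtain ⟨p, κ, κ', w, hκ, hy, hz⟩ :=
    exists_common_lattice φ.toLin φ.injective ψ.toLin ψ.injective y z h
  exact ⟨p, κ, κ', w, ICone.Hom.ext hκ, hy, hz⟩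

/-- Two marked points lie in a common subcone. -/
def Common (F : Fan.{u}) {n₁ n₂ : ICone} (σ₁ : F.obj (op n₁)) (σ₂ : F.obj (op n₂))
    (v₁ : Fan.Orth n₁) (v₂ : Fan.Orth n₂) : Prop :=
  ∃ (k : ICone) (φ₁ : k ⟶ n₁) (φ₂ : k ⟶ n₂) (y : Fan.Orth k) (c₁ c₂ : ℝ),
    F.map φ₁.op σ₁ = F.map φ₂.op σ₂ ∧ 0 < c₁ ∧ 0 < c₂ ∧
      v₁.1 = c₁ • φ₁.realMap y.1 ∧ v₂.1 = c₂ • φ₂.realMap y.1

lemma Common.trans {n₁ n₂ n₃ : ICone} {σ₁ : F.obj (op n₁)} {σ₂ : F.obj (op n₂)} {σ₃ : F.obj (op n₃)}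
    {v₁ : Fan.Orth n₁} {v₂ : Fan.Orth n₂} {v₃ : Fan.Orth n₃} (h : Common F σ₁ σ₂ v₁ v₂)
    (h' : Common F σ₂ σ₃ v₂ v₃) : Common F σ₁ σ₃ v₁ v₃ := by
  obtain ⟨k, φ₁, φ₂, y, c₁, c₂, hσ, hc₁, hc₂, e₁, e₂⟩ := h
  obtain ⟨m, ψ₂, ψ₃, z, d₂, d₃, hσ', hd₂, hd₃, e₂', e₃⟩ := h'
  obtain ⟨p, κ, κ', w, hκ, hy, hz⟩ := exists_common_sub φ₂ ψ₂ (scl c₂ hc₂ y) (scl d₂ hd₂ z)
    (by rw [scl_val, scl_val, realMap_smul, realMap_smul, ← e₂, ← e₂'])
  refine ⟨p, κ ≫ φ₁, κ' ≫ ψ₃, w, c₁ / c₂, d₃ / d₂, ?_, div_pos hc₁ hc₂, div_pos hd₃ hd₂, ?_, ?_⟩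
  · rw [map_comp_apply, hσ, ← map_comp_apply, hκ, map_comp_apply, hσ', ← map_comp_apply]
  · rw [e₁, realMap_comp, ← omap_val κ, hy, scl_val, realMap_smul, smul_smul, div_mul_cancel₀ _ hc₂.ne']
  · rw [e₃, realMap_comp, ← omap_val κ', hz, scl_val, realMap_smul, smul_smul, div_mul_cancel₀ _ hd₂.ne']

theorem common_of_eq {n₁ n₂ : ICone} {σ₁ : F.obj (op n₁)} {σ₂ : F.obj (op n₂)} {v₁ : Fan.Orth n₁}
    {v₂ : Fan.Orth n₂} (h : Fan.P.mk σ₁ v₁ = Fan.P.mk σ₂ v₂) : Common F σ₁ σ₂ v₁ v₂ := by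
  have key : ∀ p q : Fan.Pt F, Relation.EqvGen (Fan.Rel F) p q → Common F p.1.2 q.1.2 p.2 q.2 := by
    intro p q hpq
    induction hpq with
    | rel _ _ hr =>
      cases hr with
      | glue φ ξ v w c hc hw => exact ⟨_, 𝟙 _, φ, v, 1, c, map_id_apply _, one_pos, hc, by simp, hw⟩
    | refl p => exact ⟨_, 𝟙 _, 𝟙 _, p.2, 1, 1, rfl, one_pos, one_pos, by simp, by simp⟩
    | symm _ _ _ ih =>
      obtain ⟨k, φ₁, φ₂, y, c₁, c₂, hσ, hc₁, hc₂, e₁, e₂⟩ := ih
      exact ⟨k, φ₂, φ₁, y, c₂, c₁, hσ.symm, hc₂, hc₁, e₂, e₁⟩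
    | trans _ _ _ _ _ ih ih' => exact ih.trans ih'
  exact key ⟨⟨n₁, σ₁⟩, v₁⟩ ⟨⟨n₂, σ₂⟩, v₂⟩ (Quot.eq.1 h)

theorem eq_of_common {n₁ n₂ : ICone} {σ₁ : F.obj (op n₁)} {σ₂ : F.obj (op n₂)} {v₁ : Fan.Orth n₁}
    {v₂ : Fan.Orth n₂} (h : Common F σ₁ σ₂ v₁ v₂) : Fan.P.mk σ₁ v₁ = Fan.P.mk σ₂ v₂ := by
  obtain ⟨k, φ₁, φ₂, y, c₁, c₂, hσ, hc₁, hc₂, e₁, e₂⟩ := h
  rw [← mk_eq_of_smul (v := omap φ₁ y) hc₁ e₁, ← mk_eq_of_smul (v := omap φ₂ y) hc₂ e₂, ← mk_glue,
    ← mk_glue, hσ]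

end Groth.Agent.Lib.Fans
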