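import Groth.Agent.Lib.Fans.Topo
import Mathlib.CategoryTheory.Limits.Shapes.Pullback.Mono

/-!
# Formal fans: fibre products, boundedness
-/

open CategoryTheory Opposite Limits Filter Topology

noncomputable section

universe u

namespace Groth.Agent.Lib.Fans

open Instab

variable {k n m : ICone} {F F' G : Fan.{u}}

/-- The cone of `h_[n]` given by a cone morphism. -/
abbrev yc (φ : k ⟶ n) : (uliftYoneda.{u}.obj n).obj (op k) := ULift.up φ

lemma coneMap_app (σ : G.obj (op n)) (φ : k ⟶ n) :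
    (Fan.coneMap σ).app (op k) (yc φ) = G.map φ.op σ := by
  simp [Fan.coneMap, uliftYonedaEquiv_symm_apply_app]

lemma coneMap_app_id (σ : G.obj (op n)) : (Fan.coneMap σ).app (op n) (yc (𝟙 n)) = σ := by
  rw [coneMap_app, map_id_apply]

lemma coneMap_comp (σ : F.obj (op n)) (f : F ⟶ G) :
    Fan.coneMap σ ≫ f = Fan.coneMap (f.app _ σ) :=
  uliftYonedaEquiv_symm_comp σ f

lemma exists_yc (x : (uliftYoneda.{u}.obj n).obj (op k)) : ∃ φ : k ⟶ n, x = yc φ := ⟨x.down, rfl⟩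

lemma map_yc (κ : m ⟶ k) (φ : k ⟶ n) :
    (uliftYoneda.{u}.obj n).map κ.op (yc φ) = yc (κ ≫ φ) := rfl

lemma exists_pullback_elt (f : F ⟶ G) (g : F' ⟶ G) (a : F.obj (op k)) (b : F'.obj (op k))
    (h : f.app _ a = g.app _ b) :
    ∃ e : (pullback f g).obj (op k),
      (pullback.fst f g).app _ e = a ∧ (pullback.snd f g).app _ e = b := by
  have hab : Fan.coneMap a ≫ f = Fan.coneMap b ≫ g := by rw [coneMap_comp, coneMap_comp, h]
  refine ⟨(pullback.lift (Fan.coneMap a) (Fan.coneMap b) hab).app _ (yc (𝟙 k)), ?_, ?_⟩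
  · exact (congrArg (fun t : uliftYoneda.{u}.obj k ⟶ F => t.app (op k) (yc (𝟙 k)))
      (pullback.lift_fst _ _ hab)).trans (coneMap_app_id a)
  · exact (congrArg (fun t : uliftYoneda.{u}.obj k ⟶ F' => t.app (op k) (yc (𝟙 k)))
      (pullback.lift_snd _ _ hab)).trans (coneMap_app_id b)

lemma pullback_comm_apply (f : F ⟶ G) (g : F' ⟶ G) (e : (pullback f g).obj (op k)) :
    f.app _ ((pullback.fst f g).app _ e) = g.app _ ((pullback.snd f g).app _ e) :=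
  congrArg (fun t : pullback f g ⟶ G => t.app (op k) e) pullback.condition

lemma pullback_elt_ext (f : F ⟶ G) (g : F' ⟶ G) {e e' : (pullback f g).obj (op k)}
    (h₁ : (pullback.fst f g).app _ e = (pullback.fst f g).app _ e')
    (h₂ : (pullback.snd f g).app _ e = (pullback.snd f g).app _ e') : e = e' := by
  refine uliftYonedaEquiv.{u}.symm.injective (pullback.hom_ext ?_ ?_)
  · rw [uliftYonedaEquiv_symm_comp, uliftYonedaEquiv_symm_comp, h₁]
  · rw [uliftYonedaEquiv_symm_comp, uliftYonedaEquiv_symm_comp, h₂]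

theorem exists_pullback_point (f : F ⟶ G) (g : F' ⟶ G) (x : Fan.P F) (x' : Fan.P F')
    (h : Fan.P.map f x = Fan.P.map g x') :
    ∃ y : Fan.P (pullback f g),
      Fan.P.map (pullback.fst f g) y = x ∧ Fan.P.map (pullback.snd f g) y = x' := by
  obtain ⟨i, a, v, rfl⟩ := exists_rep x
  obtain ⟨j, b, w, rfl⟩ := exists_rep x'
  obtain ⟨l, φ₁, φ₂, y, c₁, c₂, hσ, hc₁, hc₂, e₁, e₂⟩ := common_of_eq h
  obtain ⟨e, he₁, he₂⟩ := exists_pullback_elt f g (F.map φ₁.op a) (F'.map φ₂.op b)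
    ((NatTrans.naturality_apply f φ₁.op a).trans (hσ.trans (NatTrans.naturality_apply g φ₂.op b).symm))
  refine ⟨Fan.P.mk e y, ?_, ?_⟩
  · rw [map_mk, he₁, mk_glue, mk_eq_of_smul (v := omap φ₁ y) hc₁ e₁]
  · rw [map_mk, he₂, mk_glue, mk_eq_of_smul (v := omap φ₂ y) hc₂ e₂]

/-- Points of `h_[n]` are vectors up to positive scaling. -/
lemma yc_eq_vec {φ : k ⟶ n} {χ : m ⟶ n} {v : Fan.Orth k} {w : Fan.Orth m}
    (h : Fan.P.mk (yc.{u} φ) v = Fan.P.mk (yc.{u} χ) w) :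
    ∃ c : ℝ, 0 < c ∧ χ.realMap w.1 = c • φ.realMap v.1 := by
  obtain ⟨l, κ₁, κ₂, y, c₁, c₂, hσ, hc₁, hc₂, e₁, e₂⟩ := common_of_eq h
  have hk : κ₁ ≫ φ = κ₂ ≫ χ := congrArg ULift.down hσ
  refine ⟨c₂ / c₁, div_pos hc₂ hc₁, ?_⟩
  rw [e₁, e₂, realMap_smul, realMap_smul, ← realMap_comp, ← realMap_comp, hk, smul_smul,
    div_mul_cancel₀ _ hc₁.ne']

/-- The finite list of cones covering the base change of a bounded map along a cone. -/
theorem exists_cover {ψ : F ⟶ G} (hψ : Fan.IsBoundedMap ψ) (σ : G.obj (op n)) :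
    ∃ t : Finset (Σ k : ICone, F.obj (op k) × (k ⟶ n)),
      (∀ e ∈ t, ψ.app _ e.2.1 = G.map e.2.2.op σ) ∧
      ∀ (x : Fan.P F) (v : Fan.Orth n), Fan.P.map ψ x = Fan.P.mk σ v →
        ∃ e ∈ t, ∃ (y : Fan.Orth e.1) (c : ℝ), 0 < c ∧ x = Fan.P.mk e.2.1 y ∧
          v.1 = c • e.2.2.realMap y.1 := by
  classical
  obtain ⟨s, hs⟩ := hψ n σ
  refine ⟨s.image fun e => ⟨e.1, (pullback.fst ψ (Fan.coneMap σ)).app _ e.2, ((pullback.snd ψ (Fan.coneMap σ)).app _ e.2).down⟩,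
    ?_, ?_⟩
  · intro e he
    obtain ⟨⟨l, q⟩, -, rfl⟩ := Finset.mem_image.1 he
    exact (pullback_comm_apply ψ (Fan.coneMap σ) q).trans (coneMap_app σ _)
  · intro x v h
    obtain ⟨i, a, w, rfl⟩ := exists_rep x
    have h' : Fan.P.map ψ (Fan.P.mk a w) = Fan.P.map (Fan.coneMap σ) (Fan.P.mk (yc (𝟙 n)) v) := by
      rw [h, map_mk (Fan.coneMap σ), coneMap_app_id]
    obtain ⟨z, hz₁, hz₂⟩ := exists_pullback_point ψ (Fan.coneMap σ) _ _ h'
    obtain ⟨e, he, y, rfl⟩ := hs z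
    refine ⟨_, Finset.mem_image_of_mem _ he, y, ?_⟩
    rw [map_mk] at hz₁ hz₂
    obtain ⟨c, hc, hv⟩ := yc_eq_vec (φ := ((pullback.snd ψ (Fan.coneMap σ)).app _ e.2).down) (χ := 𝟙 n)
      (v := y) (w := v) hz₂
    exact ⟨c, hc, hz₁.symm, by rwa [realMap_id] at hv⟩

/-- A bounded map is closed. -/
theorem isClosedMap_map {ψ : F ⟶ G} (hψ : Fan.IsBoundedMap ψ) : IsClosedMap (Fan.P.map ψ) := by
  intro T hT
  refine (isClosed_iff _).2 fun n σ => ?_
  obtain ⟨t, ht, hcov⟩ := exists_cover hψ σ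
  have : Fan.P.mk σ ⁻¹' (Fan.P.map ψ '' T) = ⋃ e ∈ t, omap e.2.2 '' (Fan.P.mk e.2.1 ⁻¹' T) := by
    ext v
    simp only [Set.mem_preimage, Set.mem_image, Set.mem_iUnion, exists_prop]
    constructor
    · rintro ⟨x, hx, h⟩
      obtain ⟨e, he, y, c, hc, rfl, hv⟩ := hcov x v h
      refine ⟨e, he, scl c hc y, by rwa [mk_scl], orth_ext ?_⟩
      rw [omap_scl, scl_val, omap_val, hv]
    · rintro ⟨e, he, y, hy, rfl⟩
      exact ⟨_, hy, by rw [map_mk, ht e he, mk_glue]⟩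
  rw [this]
  exact t.finite_toSet.isClosed_biUnion fun e _ =>
    isClosedMap_omap e.2.2 _ (hT.preimage (continuous_mk _))

theorem finite_fibre {ψ : F ⟶ G} (hψ : Fan.IsBoundedMap ψ) (p : Fan.P G) :
    (Fan.P.map ψ ⁻¹' {p}).Finite := by
  obtain ⟨n, σ, v, rfl⟩ := exists_rep p
  obtain ⟨t, ht, hcov⟩ := exists_cover hψ σ
  refine (t.finite_toSet.biUnion (t := fun e => Fan.P.mk e.2.1 '' (omap e.2.2 ⁻¹' {v})) fun e _ =>
    ((Set.finite_singleton v).preimage (omap_injective _).injOn).image _).subset fun x hx => ?_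
  obtain ⟨e, he, y, c, hc, rfl, hv⟩ := hcov x v hx
  simp only [Set.mem_iUnion, Set.mem_image, Set.mem_preimage, Set.mem_singleton_iff, exists_prop]
  exact ⟨e, he, scl c hc y, orth_ext (by rw [omap_scl, scl_val, omap_val, hv]), mk_scl _ _ _ _⟩

lemma isBounded_yoneda (n : ICone) : Fan.IsBounded (uliftYoneda.{u}.obj n) := by
  refine ⟨{⟨n, yc (𝟙 n)⟩}, fun x => ⟨_, Finset.mem_singleton_self _, ?_⟩⟩
  obtain ⟨l, q, v, rfl⟩ := exists_rep x
  obtain ⟨φ, rfl⟩ := exists_yc q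
  exact ⟨omap φ v, by rw [← mk_glue, map_yc, Category.comp_id]⟩

/-- Maps out of bounded fans to quasi-separated fans are bounded. -/
theorem isBoundedMap_of_qs (hG : G.IsQuasiSeparated) (hF : F.IsBounded) (f : F ⟶ G) :
    Fan.IsBoundedMap f := by
  classical
  intro n σ
  obtain ⟨s, hs⟩ := hF
  choose t ht using fun e : (Σ m : ICone, F.obj (op m)) => hG e.1 n (f.app _ e.2) σ
  let Θ : (e : Σ m : ICone, F.obj (op m)) →
      (pullback (Fan.coneMap (f.app _ e.2)) (Fan.coneMap σ) ⟶ pullback f (Fan.coneMap σ)) := fun e =>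
    pullback.lift (pullback.fst _ _ ≫ Fan.coneMap e.2) (pullback.snd _ _)
      (by rw [Category.assoc, coneMap_comp, pullback.condition])
  refine ⟨s.biUnion fun e => (t e).image fun q => ⟨q.1, (Θ e).app _ q.2⟩, fun z => ?_⟩
  obtain ⟨l, q, v, rfl⟩ := exists_rep z
  obtain ⟨e, he, w, hw⟩ := hs (Fan.P.mk ((pullback.fst f (Fan.coneMap σ)).app _ q) v)
  obtain ⟨i, φ₁, φ₂, y, c₁, c₂, hσ, hc₁, hc₂, e₁, e₂⟩ := common_of_eq hw
  obtain ⟨χ, hχ⟩ := exists_yc ((pullback.snd f (Fan.coneMap σ)).app _ q)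
  have key : f.app _ ((pullback.fst f (Fan.coneMap σ)).app _ q) = G.map χ.op σ := by
    rw [pullback_comm_apply, hχ, coneMap_app]
  obtain ⟨p, hp₁, hp₂⟩ := exists_pullback_elt (Fan.coneMap (f.app _ e.2)) (Fan.coneMap σ)
    (yc φ₁) (yc (φ₂ ≫ χ)) (by
      rw [coneMap_app, coneMap_app, map_comp_apply, ← key,
        ← NatTrans.naturality_apply f φ₁.op e.2, hσ, NatTrans.naturality_apply f φ₂.op])
  obtain ⟨p', hp', y', hy'⟩ := ht e (Fan.P.mk p y)
  refine ⟨_, Finset.mem_biUnion.2 ⟨e, he, Finset.mem_image_of_mem _ hp'⟩, y', ?_⟩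
  have hΘ : (Θ e).app _ p = (pullback f (Fan.coneMap σ)).map φ₂.op q := by
    refine pullback_elt_ext _ _ ?_ ?_
    · rw [NatTrans.naturality_apply, ← hσ, ← coneMap_app, ← hp₁]
      exact congrArg (fun t : pullback (Fan.coneMap (f.app _ e.2)) (Fan.coneMap σ) ⟶ F => t.app (op i) p)
        (pullback.lift_fst _ _ _)
    · rw [NatTrans.naturality_apply, hχ, map_yc, ← hp₂]
      exact congrArg (fun t : pullback (Fan.coneMap (f.app _ e.2)) (Fan.coneMap σ) ⟶ uliftYoneda.{u}.obj n =>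
        t.app (op i) p) (pullback.lift_snd _ _ _)
  calc Fan.P.mk ((Θ e).app _ p'.2) y' = Fan.P.map (Θ e) (Fan.P.mk p'.2 y') := rfl
    _ = Fan.P.map (Θ e) (Fan.P.mk p y) := by rw [hy']
    _ = Fan.P.mk q v := by
      rw [map_mk, hΘ, mk_glue, mk_eq_of_smul (v := omap φ₂ y) hc₂ e₂]

theorem isBoundedMap_coneMap (hG : G.IsQuasiSeparated) (ξ : G.obj (op n)) :
    Fan.IsBoundedMap (Fan.coneMap ξ) := fun _ σ => hG _ _ ξ σ

end Groth.Agent.Lib.Fans
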