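import Groth.Agent.Lib.Fans.Bounded
import Mathlib.Topology.Sequences
import Mathlib.Topology.MetricSpace.ProperSpace
import Mathlib.Topology.MetricSpace.Bounded

/-!
# Quasi-separated formal fans
-/

open CategoryTheory Opposite Limits Filter Topology

noncomputable section

universe u

namespace Groth.Agent.Lib.Fans

open Instab

variable {k n n' m : ICone} {F G : Fan.{u}}

theorem exists_pairs (hG : G.IsQuasiSeparated) (ξ : G.obj (op n)) (ξ' : G.obj (op n')) :
    ∃ s : Finset (Σ k : ICone, (k ⟶ n) × (k ⟶ n')),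
      (∀ e ∈ s, G.map e.2.1.op ξ = G.map e.2.2.op ξ') ∧
      ∀ (v : Fan.Orth n) (w : Fan.Orth n'), Fan.P.mk ξ v = Fan.P.mk ξ' w ↔
        ∃ e ∈ s, ∃ (y : Fan.Orth e.1) (c c' : ℝ), 0 < c ∧ 0 < c' ∧
          v.1 = c • e.2.1.realMap y.1 ∧ w.1 = c' • e.2.2.realMap y.1 := by
  classical
  obtain ⟨t, ht, hcov⟩ := exists_cover (isBoundedMap_coneMap hG ξ) ξ'
  refine ⟨t.image fun e => ⟨e.1, e.2.1.down, e.2.2⟩, ?_, fun v w => ⟨fun h => ?_, ?_⟩⟩
  · intro e he
    obtain ⟨q, hq, rfl⟩ := Finset.mem_image.1 he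
    exact (coneMap_app ξ _).symm.trans (ht q hq)
  · obtain ⟨e, he, y, c, hc, hx, hw⟩ := hcov (Fan.P.mk (yc (𝟙 n)) v) w (by rw [map_mk, coneMap_app_id, h])
    obtain ⟨c', hc', hv⟩ := yc_eq_vec (φ := e.2.1.down) (χ := 𝟙 n) (v := y) (w := v) hx.symm
    rw [realMap_id] at hv
    exact ⟨_, Finset.mem_image_of_mem _ he, y, c', c, hc', hc, hv, hw⟩
  · rintro ⟨e, he, y, c, c', hc, hc', hv, hw⟩
    obtain ⟨q, hq, rfl⟩ := Finset.mem_image.1 he
    exact eq_of_common ⟨_, _, _, y, c, c', (coneMap_app ξ _).symm.trans (ht q hq), hc, hc', hv, hw⟩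

theorem isClosed_image_mk (hF : F.IsQuasiSeparated) (ξ : F.obj (op n)) {S : Set (Fan.Orth n)}
    (hS : IsClosed S) (hscl : ∀ v w : Fan.Orth n, v ∈ S → ∀ c : ℝ, 0 < c → w.1 = c • v.1 → w ∈ S) :
    IsClosed (Fan.P.mk ξ '' S) := by
  have hT : IsClosed (Fan.P.mk (yc.{u} (𝟙 n)) '' S) := by
    refine (isClosed_iff _).2 fun m q => ?_
    obtain ⟨φ, rfl⟩ := exists_yc q
    have : Fan.P.mk (yc.{u} φ) ⁻¹' (Fan.P.mk (yc.{u} (𝟙 n)) '' S) = omap φ ⁻¹' S := by
      ext v
      constructor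
      · rintro ⟨w, hw, h⟩
        obtain ⟨c, hc, hv⟩ := yc_eq_vec h
        rw [realMap_id] at hv
        exact hscl w (omap φ v) hw c hc hv
      · intro hv
        exact ⟨omap φ v, hv, by rw [← mk_glue, map_yc, Category.comp_id]⟩
    rw [this]
    exact hS.preimage (continuous_omap φ)
  have : Fan.P.mk ξ '' S = Fan.P.map (Fan.coneMap ξ) '' (Fan.P.mk (yc.{u} (𝟙 n)) '' S) := by
    rw [Set.image_image]
    simp only [map_mk, coneMap_app_id]
  rw [this]
  exact isClosedMap_map (isBoundedMap_coneMap hF ξ) _ hT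

lemma isClosed_cell (hF : F.IsQuasiSeparated) (ξ : F.obj (op n)) : IsClosed (Fan.P.cell ξ) := by
  rw [Fan.P.cell, ← Set.image_univ]
  exact isClosed_image_mk hF ξ isClosed_univ fun _ _ _ _ _ _ => Set.mem_univ _

lemma isClosed_iff_cells (hF : F.IsQuasiSeparated) (S : Set (Fan.P F)) :
    IsClosed S ↔ ∀ (n : ICone) (ξ : F.obj (op n)), IsClosed (S ∩ Fan.P.cell ξ) := by
  refine ⟨fun h n ξ => h.inter (isClosed_cell hF ξ), fun h => (isClosed_iff S).2 fun n ξ => ?_⟩
  have : Fan.P.mk ξ ⁻¹' (S ∩ Fan.P.cell ξ) = Fan.P.mk ξ ⁻¹' S := by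
    ext v
    simp [Fan.P.cell]
  exact this ▸ (h n ξ).preimage (continuous_mk ξ)

/-- Proportional nonnegative vectors lie on one ray. -/
lemma exists_smul_of_cross {v w : Fan.Orth n} (h : ∀ i j, v.1 i * w.1 j = v.1 j * w.1 i) :
    ∃ c : ℝ, 0 < c ∧ w.1 = c • v.1 := by
  obtain ⟨i, hi⟩ := Function.ne_iff.1 v.2.2
  have hvi : 0 < v.1 i := lt_of_le_of_ne (v.2.1 i) (Ne.symm hi)
  have hw : w.1 = (w.1 i / v.1 i) • v.1 := by
    funext j
    rw [Pi.smul_apply, smul_eq_mul, div_mul_eq_mul_div, eq_div_iff hvi.ne']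
    linarith [h i j, mul_comm (w.1 j) (v.1 i), mul_comm (w.1 i) (v.1 j)]
  refine ⟨_, lt_of_le_of_ne (div_nonneg (w.2.1 i) hvi.le) fun h0 => w.2.2 ?_, hw⟩
  rw [hw, ← h0, zero_smul]

lemma isClosed_ray (v : Fan.Orth n) : IsClosed {w : Fan.Orth n | ∃ c : ℝ, 0 < c ∧ w.1 = c • v.1} := by
  have : {w : Fan.Orth n | ∃ c : ℝ, 0 < c ∧ w.1 = c • v.1} = {w | ∀ i j, v.1 i * w.1 j = v.1 j * w.1 i} := by
    ext w
    refine ⟨?_, exists_smul_of_cross⟩
    rintro ⟨c, hc, h⟩ i j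
    rw [h]
    simp only [Pi.smul_apply, smul_eq_mul]
    ring
  rw [this]
  simp only [Set.ofPred_forall]
  exact isClosed_iInter fun i => isClosed_iInter fun j => isClosed_eq
    (continuous_const.mul ((continuous_apply j).comp continuous_orth_val))
    (continuous_const.mul ((continuous_apply i).comp continuous_orth_val))

lemma isClosed_singleton_pt (hF : F.IsQuasiSeparated) (x : Fan.P F) : IsClosed {x} := by
  obtain ⟨n, ξ, v, rfl⟩ := exists_rep x
  have : {Fan.P.mk ξ v} = Fan.P.mk ξ '' {w : Fan.Orth n | ∃ c : ℝ, 0 < c ∧ w.1 = c • v.1} := by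
    ext y
    constructor
    · rintro rfl
      exact ⟨v, ⟨1, one_pos, (one_smul _ _).symm⟩, rfl⟩
    · rintro ⟨w, ⟨c, hc, hw⟩, rfl⟩
      exact (mk_eq_of_smul hc hw).symm
  rw [this]
  refine isClosed_image_mk hF ξ (isClosed_ray v) ?_
  rintro w w' ⟨c, hc, hw⟩ d hd hw'
  exact ⟨d * c, mul_pos hd hc, by rw [hw', hw, smul_smul]⟩

lemma sum_pos (v : Fan.Orth n) : 0 < ∑ i, v.1 i := by
  obtain ⟨i, hi⟩ := Function.ne_iff.1 v.2.2
  exact Finset.sum_pos' (fun i _ => v.2.1 i) ⟨i, Finset.mem_univ i, lt_of_le_of_ne (v.2.1 i) (Ne.symm hi)⟩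

/-- The representative with coordinate sum one. -/
def nrm (v : Fan.Orth n) : Fan.Orth n := scl (∑ i, v.1 i)⁻¹ (inv_pos.2 (sum_pos v)) v

lemma continuous_nrm : Continuous (nrm (n := n)) := by
  refine continuous_of_val ?_
  exact ((continuous_finsetSum _ fun i _ => (continuous_apply i).comp continuous_orth_val).inv₀
    fun v => (sum_pos v).ne').smul continuous_orth_val

lemma mk_nrm (ξ : F.obj (op n)) (v : Fan.Orth n) : Fan.P.mk ξ (nrm v) = Fan.P.mk ξ v := mk_scl _ _ _ _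

lemma nrm_eq_of_smul {v w : Fan.Orth n} {c : ℝ} (hc : 0 < c) (h : w.1 = c • v.1) : nrm w = nrm v := by
  refine orth_ext ?_
  simp only [nrm, scl_val, h, Pi.smul_apply, smul_eq_mul, ← Finset.mul_sum, smul_smul]
  congr 1
  field_simp

/-- The standard simplex inside the orthant. -/
def simplex (n : ICone) : Set (Fan.Orth n) := {v | ∑ i, v.1 i = 1}

lemma nrm_mem_simplex (v : Fan.Orth n) : nrm v ∈ simplex n := by
  simp only [simplex, Set.mem_ofPred_eq, nrm, scl_val, Pi.smul_apply, smul_eq_mul, ← Finset.mul_sum]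
  exact inv_mul_cancel₀ (sum_pos v).ne'

lemma isCompact_simplex (n : ICone) : IsCompact (simplex n) := by
  have hK : IsCompact ({x : Fin n.dim → ℝ | ∀ i, x i ∈ Set.Icc (0 : ℝ) 1} ∩ {x | ∑ i, x i = 1}) :=
    IsCompact.inter_right (isCompact_pi_infinite fun _ => isCompact_Icc)
      (isClosed_eq (continuous_finsetSum _ fun i _ => continuous_apply i) continuous_const)
  refine (IsInducing.subtypeVal.isCompact_iff (f := fun v : Fan.Orth n => v.1)).2 ?_
  convert hK using 1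
  ext x
  constructor
  · rintro ⟨v, hv, rfl⟩
    exact ⟨fun i => ⟨v.2.1 i, hv ▸ Finset.single_le_sum (fun j _ => v.2.1 j) (Finset.mem_univ i)⟩, hv⟩
  · rintro ⟨h0, h1⟩
    exact ⟨⟨x, fun i => (h0 i).1, fun h => by simp [h] at h1⟩, h1, rfl⟩

theorem exists_lift_subseq (hF : F.IsQuasiSeparated) (x : ℕ → Fan.P F) (x₀ : Fan.P F)
    (hx : Tendsto x atTop (𝓝 x₀)) :
    ∃ (n : ICone) (σ : F.obj (op n)) (r : ℕ → ℕ) (v : ℕ → Fan.Orth n) (v₀ : Fan.Orth n),
      StrictMono r ∧ (∀ j, Fan.P.mk σ (v j) = x (r j)) ∧ Fan.P.mk σ v₀ = x₀ ∧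
        Tendsto v atTop (𝓝 v₀) := by
  by_cases hconst : ∃ᶠ i in atTop, x i = x₀
  · obtain ⟨r, hr, hr'⟩ := extraction_of_frequently_atTop hconst
    obtain ⟨n, σ, v, rfl⟩ := exists_rep x₀
    exact ⟨n, σ, r, fun _ => v, v, hr, fun j => (hr' j).symm, rfl, tendsto_const_nhds⟩
  rw [not_frequently, eventually_atTop] at hconst
  obtain ⟨N, hN⟩ := hconst
  have hcell : ∃ (n : ICone) (σ : F.obj (op n)), ∃ᶠ i in atTop, x i ∈ Fan.P.cell σ := by
    by_contra hcon
    push Not at hcon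
    have hT : IsClosed (x '' Set.Ici N) := by
      refine (isClosed_iff_cells hF _).2 fun n σ => ?_
      obtain ⟨M, hM⟩ := eventually_atTop.1 (hcon n σ)
      have hfin : (x '' Set.Ici N ∩ Fan.P.cell σ).Finite := by
        refine ((Set.finite_Iio M).image x).subset ?_
        rintro y ⟨⟨i, -, rfl⟩, hy⟩
        exact ⟨i, lt_of_not_ge fun h => hM i h hy, rfl⟩
      rw [← Set.biUnion_of_singleton (x '' Set.Ici N ∩ Fan.P.cell σ)]
      exact hfin.isClosed_biUnion fun y _ => isClosed_singleton_pt hF y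
    obtain ⟨i, hi, hi'⟩ := hT.mem_of_tendsto hx (eventually_atTop.2 ⟨N, fun i hi => ⟨i, hi, rfl⟩⟩)
    exact hN i hi hi'
  obtain ⟨n, σ, hfr⟩ := hcell
  obtain ⟨r, hr, hr'⟩ := extraction_of_frequently_atTop hfr
  choose w hw using hr'
  have : FirstCountableTopology (Fan.Orth n) :=
    inferInstanceAs (FirstCountableTopology {v : Fin n.dim → ℝ // (∀ i, 0 ≤ v i) ∧ v ≠ 0})
  have : T2Space (Fan.Orth n) := inferInstanceAs (T2Space {v : Fin n.dim → ℝ // (∀ i, 0 ≤ v i) ∧ v ≠ 0})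
  obtain ⟨v₀, hv₀, s, hs, hlim⟩ := (isCompact_simplex n).tendsto_subseq fun j => nrm_mem_simplex (w j)
  refine ⟨n, σ, r ∘ s, fun j => nrm (w (s j)), v₀, hr.comp hs,
    fun j => (mk_nrm σ _).trans (hw (s j)), ?_, hlim⟩
  have hK : IsCompact (insert v₀ ((fun j => nrm (w (s j))) '' Set.Ici N)) := by
    have := (hlim.comp (tendsto_add_atTop_nat N)).isCompact_insert_range
    convert this using 2
    ext v
    simp only [Set.mem_image, Set.mem_Ici, Set.mem_range, Function.comp_apply]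
    exact ⟨fun ⟨i, hi, h⟩ => ⟨i - N, by rwa [Nat.sub_add_cancel hi]⟩, fun ⟨i, h⟩ => ⟨i + N, by omega, h⟩⟩
  set K := insert v₀ ((fun j => nrm (w (s j))) '' Set.Ici N)
  have hcl : IsClosed (Fan.P.mk σ '' (nrm ⁻¹' K)) :=
    isClosed_image_mk hF σ (hK.isClosed.preimage continuous_nrm)
      fun v w hv c hc h => by simpa [nrm_eq_of_smul hc h] using hv
  obtain ⟨v, hv, hv'⟩ := hcl.mem_of_tendsto (hx.comp (hr.comp hs).tendsto_atTop)
    (eventually_atTop.2 ⟨N, fun j hj => ⟨nrm (w (s j)), by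
      refine Or.inr ⟨j, hj, ?_⟩
      exact (nrm_eq_of_smul (inv_pos.2 (sum_pos _)) rfl).symm, by
      exact (mk_nrm σ _).trans (hw (s j))⟩⟩)
  rw [← mk_nrm] at hv'
  rcases hv with h | ⟨j, hj, h⟩
  · rwa [h] at hv'
  · refine absurd ?_ (hN (r (s j)) (le_trans hj (le_trans (hs.id_le j) (hr.id_le (s j)))))
    rw [← hv', ← h, mk_nrm, hw]

/-- Injectivity on rational points suffices. -/
theorem map_injective_of_rational (ψ : F ⟶ G) (hF : F.IsQuasiSeparated)
    (h : ∀ x y : Fan.P F, x.IsRational → y.IsRational → Fan.P.map ψ x = Fan.P.map ψ y → x = y) :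
    Function.Injective (Fan.P.map ψ) := by
  intro x y hxy
  obtain ⟨i, a, v, rfl⟩ := exists_rep x
  obtain ⟨j, b, w, rfl⟩ := exists_rep y
  obtain ⟨k, φ₁, φ₂, z, c₁, c₂, hσ, hc₁, hc₂, e₁, e₂⟩ := common_of_eq hxy
  rw [← mk_eq_of_smul (v := omap φ₁ z) hc₁ e₁, ← mk_eq_of_smul (v := omap φ₂ z) hc₂ e₂, ← mk_glue, ← mk_glue]
  set a' := F.map φ₁.op a
  set b' := F.map φ₂.op b
  have hab : ψ.app _ a' = ψ.app _ b' :=
    (NatTrans.naturality_apply ψ φ₁.op a).trans (hσ.trans (NatTrans.naturality_apply ψ φ₂.op b).symm)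
  obtain ⟨s, -, hs⟩ := exists_pairs hF a' b'
  suffices {v : Fan.Orth k | Fan.P.mk a' v = Fan.P.mk b' v} = Set.univ from
    (Set.eq_univ_iff_forall.1 this) z
  refine eq_univ_of_integral ?_ (fun v c hc hv => ?_) (fun w h0 hw => ?_)
  · have : {v : Fan.Orth k | Fan.P.mk a' v = Fan.P.mk b' v} = ⋃ e ∈ s,
        omap e.2.1 '' {y | ∀ i j, (omap e.2.1 y).1 i * (omap e.2.2 y).1 j =
          (omap e.2.1 y).1 j * (omap e.2.2 y).1 i} := by
      ext v
      simp only [Set.mem_ofPred_eq, hs, Set.mem_iUnion, Set.mem_image, exists_prop]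
      refine ⟨fun ⟨e, he, y, c, c', hc, hc', h1, h2⟩ => ⟨e, he, scl c hc y, fun i j => ?_, ?_⟩, ?_⟩
      · have hy : e.2.2.realMap y.1 = (1 / c') • v.1 := by
          rw [h2, smul_smul, one_div_mul_cancel hc'.ne', one_smul]
        simp only [omap_scl, scl_val, omap_val, hy, Pi.smul_apply, smul_eq_mul]
        have hi := congrFun h1 i
        have hj := congrFun h1 j
        simp only [Pi.smul_apply, smul_eq_mul] at hi hj
        rw [hi, hj]
        ring
      · exact orth_ext (by rw [omap_scl, scl_val, omap_val, h1])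
      · rintro ⟨e, he, y, hy, rfl⟩
        obtain ⟨c, hc, h2⟩ := exists_smul_of_cross hy
        refine ⟨e, he, y, 1, 1 / c, one_pos, by positivity, (one_smul _ _).symm, ?_⟩
        change (omap e.2.1 y).1 = (1 / c) • (omap e.2.2 y).1
        rw [h2, smul_smul, one_div_mul_cancel hc.ne', one_smul]
    rw [this]
    refine s.finite_toSet.isClosed_biUnion fun e _ => isClosedMap_omap _ _ ?_
    simp only [Set.ofPred_forall]
    exact isClosed_iInter fun i => isClosed_iInter fun j => isClosed_eq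
      (((continuous_apply i).comp (continuous_orth_val.comp (continuous_omap _))).mul
        ((continuous_apply j).comp (continuous_orth_val.comp (continuous_omap _))))
      (((continuous_apply j).comp (continuous_orth_val.comp (continuous_omap _))).mul
        ((continuous_apply i).comp (continuous_orth_val.comp (continuous_omap _))))
  · simpa only [Set.mem_ofPred_eq, mk_scl] using hv
  · exact h _ _ (isRational_mk_iv _ w h0 hw) (isRational_mk_iv _ w h0 hw) (by rw [map_mk, map_mk, hab])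

end Groth.Agent.Lib.Fans
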