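import Groth.Prelude.Def_W4c6instabfans3FanCvx
import Groth.Agent.Lib.Fans.QS
import Mathlib.Analysis.Convex.Topology
import Mathlib.Topology.Connected.Basic

/-!
# Quasi-concave functions on convex subsets of the realization
-/

open CategoryTheory Opposite Filter Topology

noncomputable section

universe u v

namespace Groth.Agent.Lib.Fans

open Instab

variable {n : ICone} {F : Fan.{u}} {U : Set (Fan.P F)} {Γ : Type v} [LinearOrder Γ] {Φ : U → Γ}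

lemma exists_cell_subset (hU : Fan.IsRealizable U) {x : Fan.P F} (hx : x ∈ U) :
    ∃ (n : ICone) (ξ : F.obj (op n)) (v : Fan.Orth n), Fan.P.mk ξ v = x ∧ Fan.P.cell ξ ⊆ U := by
  obtain ⟨S, rfl⟩ := hU
  obtain ⟨y, rfl⟩ := hx
  obtain ⟨n, ξ, v, rfl⟩ := exists_rep y
  exact ⟨n, ξ.1, v, rfl, Set.range_subset_iff.2 fun w => ⟨Fan.P.mk ξ w, rfl⟩⟩

/-- A nonempty open subset of a realizable set has a rational point. -/
theorem exists_rational (hU : Fan.IsRealizable U) {O : Set U} (hO : IsOpen O) (hne : O.Nonempty) :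
    ∃ p : U, (p : Fan.P F).IsRational ∧ p ∈ O := by
  obtain ⟨⟨x, hx⟩, hxO⟩ := hne
  obtain ⟨n, ξ, v, rfl, hcell⟩ := exists_cell_subset hU hx
  let f : Fan.Orth n → U := fun w => ⟨Fan.P.mk ξ w, hcell ⟨w, rfl⟩⟩
  by_contra hcon
  push Not at hcon
  have huniv : f ⁻¹' Oᶜ = Set.univ := eq_univ_of_integral
    (hO.isClosed_compl.preimage ((continuous_mk ξ).subtype_mk _))
    (fun w c hc hw => by
      rwa [Set.mem_preimage, show f (scl c hc w) = f w from Subtype.ext (mk_scl ξ c hc w)])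
    (fun w h0 hw => hcon _ (isRational_mk_iv ξ w h0 hw))
  exact (Set.eq_univ_iff_forall.1 huniv v) hxO

lemma fin_two_cases (i : Fin (Fan.two.dim : ℕ)) : i = 0 ∨ i = 1 := by
  have h : ∀ j : Fin 2, j = 0 ∨ j = 1 := by decide
  exact h i

lemma basis_same (i : Fin (Fan.two.dim : ℕ)) : (Fan.Orth.basis Fan.two i).1 i = 1 := if_pos rfl

lemma basis_zero_one : (Fan.Orth.basis Fan.two 0).1 1 = 0 := by
  have h : (1 : Fin 2) ≠ 0 := by decide
  exact if_neg (t := (1 : ℝ)) h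

lemma basis_one_zero : (Fan.Orth.basis Fan.two 1).1 0 = 0 := by
  have h : (0 : Fin 2) ≠ 1 := by decide
  exact if_neg (t := (1 : ℝ)) h

lemma two_cases {x : Fin (Fan.two.dim : ℕ) → ℝ} :
    x = x 0 • (Fan.Orth.basis Fan.two 0).1 + x 1 • (Fan.Orth.basis Fan.two 1).1 := by
  funext i
  rw [Pi.add_apply, Pi.smul_apply, Pi.smul_apply, smul_eq_mul, smul_eq_mul]
  rcases fin_two_cases i with rfl | rfl
  · rw [basis_same, basis_one_zero]; ring
  · rw [basis_zero_one, basis_same]; ring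

lemma basis_not_prop : ¬ ∃ c : ℝ, (Fan.Orth.basis Fan.two 1).1 = c • (Fan.Orth.basis Fan.two 0).1 := by
  rintro ⟨c, h⟩
  have := congrFun h 1
  rw [Pi.smul_apply, basis_same, basis_zero_one, smul_zero] at this
  exact one_ne_zero this

/-- The value on a segment is at least the smaller of the end values. -/
theorem segment_le (hΦ : Fan.IsQuasiConcaveOn U Φ) (τ : F.obj (op Fan.two)) (hτ : Fan.P.cell τ ⊆ U)
    (w : Fan.Orth Fan.two) :
    min (Φ ⟨_, hτ ⟨Fan.Orth.basis _ 0, rfl⟩⟩) (Φ ⟨_, hτ ⟨Fan.Orth.basis _ 1, rfl⟩⟩) ≤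
      Φ ⟨_, hτ ⟨w, rfl⟩⟩ := by
  rcases eq_or_lt_of_le (w.2.1 0) with h0 | h0
  · have h1 : 0 < w.1 1 := lt_of_le_of_ne (w.2.1 1) fun h => w.2.2 (by
      rw [two_cases (x := w.1), ← h0, ← h, zero_smul, zero_smul, add_zero])
    have hw : Fan.P.mk τ (Fan.Orth.basis _ 1) = Fan.P.mk τ w :=
      mk_eq_of_smul h1 (two_cases.trans (by rw [← h0, zero_smul, zero_add]))
    exact (min_le_right _ _).trans_eq (congrArg Φ (Subtype.ext hw))
  rcases eq_or_lt_of_le (w.2.1 1) with h1 | h1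
  · have hw : Fan.P.mk τ (Fan.Orth.basis _ 0) = Fan.P.mk τ w :=
      mk_eq_of_smul h0 (two_cases.trans (by rw [← h1, zero_smul, add_zero]))
    exact (min_le_left _ _).trans_eq (congrArg Φ (Subtype.ext hw))
  exact (hΦ Fan.two τ _ w _ (hτ ⟨_, rfl⟩) (hτ ⟨_, rfl⟩) (hτ ⟨_, rfl⟩) basis_not_prop
    ⟨_, _, h0, h1, two_cases⟩).1

lemma strict_imp (hΦ : Fan.IsStrictQuasiConcaveOn U Φ) : Fan.IsQuasiConcaveOn U Φ :=
  fun n ξ v₀ v₁ v₂ h₀ h₁ h₂ hne hb =>
    ⟨(hΦ n ξ v₀ v₁ v₂ h₀ h₁ h₂ hne hb).le, fun he => absurd he.symm (hΦ n ξ v₀ v₁ v₂ h₀ h₁ h₂ hne hb).ne⟩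

/-- A rational local maximum is a global maximum. -/
theorem isMax_of_rational (hU : Fan.IsConvex U) (hΦ : Fan.IsQuasiConcaveOn U Φ)
    (hlsc : ∀ c : Γ, IsClosed {x : U | Φ x ≤ c}) (x : U) (hx : (x : Fan.P F).IsRational)
    (hmax : IsLocalMax Φ x) (y : U) : Φ y ≤ Φ x := by
  by_contra hlt
  rw [not_le] at hlt
  obtain ⟨q, hq, hqlt⟩ := exists_rational hU.2.1 (hlsc (Φ x)).isOpen_compl ⟨y, not_le.2 hlt⟩
  replace hqlt : Φ x < Φ q := not_le.1 hqlt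
  obtain ⟨τ, hτ, hτ0, hτ1⟩ := hU.2.2 x q x.2 q.2 hx hq fun h => hqlt.ne (congrArg Φ (Subtype.ext h))
  let p : ℕ → Fan.Orth Fan.two := fun N => ⟨(Fan.Orth.basis _ 0).1 + (1 / ((N : ℝ) + 1)) • (Fan.Orth.basis _ 1).1,
    fun i => add_nonneg ((Fan.Orth.basis _ 0).2.1 i)
      (mul_nonneg (by positivity) ((Fan.Orth.basis Fan.two 1).2.1 i)),
    fun h => by
      have h0 := congrFun h 0
      rw [Pi.add_apply, Pi.smul_apply, basis_same, basis_one_zero, smul_zero, add_zero] at h0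
      exact one_ne_zero h0⟩
  have hp : Tendsto p atTop (𝓝 (Fan.Orth.basis _ 0)) := by
    refine tendsto_subtype_rng.2 ?_
    have := (tendsto_const_nhds (x := (Fan.Orth.basis Fan.two 0).1)).add
      ((tendsto_one_div_add_atTop_nhds_zero_nat (𝕜 := ℝ)).smul_const (Fan.Orth.basis Fan.two 1).1)
    rw [zero_smul, add_zero] at this
    exact this
  have hlim : Tendsto (fun N => (⟨Fan.P.mk τ (p N), hτ ⟨p N, rfl⟩⟩ : U)) atTop (𝓝 x) :=
    tendsto_subtype_rng.2 (hτ0 ▸ ((continuous_mk τ).tendsto _).comp hp)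
  obtain ⟨N, hN⟩ := (hlim.eventually hmax).exists
  have e0 : Φ ⟨_, hτ ⟨Fan.Orth.basis _ 0, rfl⟩⟩ = Φ x := congrArg Φ (Subtype.ext hτ0)
  have e1 : Φ ⟨_, hτ ⟨Fan.Orth.basis _ 1, rfl⟩⟩ = Φ q := congrArg Φ (Subtype.ext hτ1)
  have h := hΦ Fan.two τ _ (p N) _ (hτ ⟨_, rfl⟩) (hτ ⟨_, rfl⟩) (hτ ⟨_, rfl⟩) basis_not_prop
    ⟨1, _, one_pos, (by positivity : 0 < 1 / ((N : ℝ) + 1)), by rw [one_smul]⟩
  rw [e0, e1, min_eq_left hqlt.le] at h
  exact hqlt.ne (h.2 (le_antisymm hN h.1))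

theorem eq_of_rational (hU : Fan.IsConvex U) (hΦ : Fan.IsStrictQuasiConcaveOn U Φ)
    (hlsc : ∀ c : Γ, IsClosed {x : U | Φ x ≤ c}) (x y : U) (hx : (x : Fan.P F).IsRational)
    (hy : (y : Fan.P F).IsRational) (hxm : IsLocalMax Φ x) (hym : IsLocalMax Φ y) : x = y := by
  by_contra hne
  obtain ⟨τ, hτ, hτ0, hτ1⟩ := hU.2.2 x y x.2 y.2 hx hy fun h => hne (Subtype.ext h)
  have hgx := isMax_of_rational hU (strict_imp hΦ) hlsc x hx hxm
  have hgy := isMax_of_rational hU (strict_imp hΦ) hlsc y hy hym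
  let p : Fan.Orth Fan.two := Fan.Orth.ones _
  have h := hΦ Fan.two τ (Fan.Orth.basis _ 0) p (Fan.Orth.basis _ 1) (hτ ⟨_, rfl⟩) (hτ ⟨_, rfl⟩)
    (hτ ⟨_, rfl⟩) basis_not_prop ⟨1, 1, one_pos, one_pos, two_cases⟩
  rw [show Φ ⟨_, hτ ⟨Fan.Orth.basis _ 0, rfl⟩⟩ = Φ x from congrArg Φ (Subtype.ext hτ0),
    show Φ ⟨_, hτ ⟨Fan.Orth.basis _ 1, rfl⟩⟩ = Φ y from congrArg Φ (Subtype.ext hτ1)] at h
  rw [(hgx y).antisymm (hgy x), min_self] at h
  exact (hgx _).not_gt h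

lemma isPreconnected_orth (n : ICone) : PreconnectedSpace (Fan.Orth n) := by
  have hc : Convex ℝ {v : Fin n.dim → ℝ | (∀ i, 0 ≤ v i) ∧ v ≠ 0} := by
    rintro x hx y hy a b ha hb hab
    refine ⟨fun i => add_nonneg (mul_nonneg ha (hx.1 i)) (mul_nonneg hb (hy.1 i)), fun h0 => ?_⟩
    rcases eq_or_lt_of_le ha with rfl | ha
    · obtain rfl : b = 1 := by linarith
      exact hy.2 (by simpa using h0)
    refine hx.2 (funext fun i => ?_)
    have h1 := congrFun h0 i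
    simp only [Pi.add_apply, Pi.smul_apply, smul_eq_mul, Pi.zero_apply] at h1
    have : a * x i = 0 := by linarith [mul_nonneg ha.le (hx.1 i), mul_nonneg hb (hy.1 i)]
    simpa [ha.ne'] using this
  exact isPreconnected_iff_preconnectedSpace.1 hc.isPreconnected

/-- An open, segment-stable subset of a convex set is connected. -/
theorem isPreconnected_super (hU : Fan.IsConvex U) (hΦ : Fan.IsQuasiConcaveOn U Φ) (P : Γ → Prop)
    (hP : ∀ a b, a ≤ b → P a → P b) (hopen : IsOpen {z : U | P (Φ z)}) :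
    IsPreconnected {z : U | P (Φ z)} := by
  intro s t hs ht hsub hsne htne
  obtain ⟨p, hp, hpO⟩ := exists_rational hU.2.1 (hopen.inter hs) hsne
  obtain ⟨q, hq, hqO⟩ := exists_rational hU.2.1 (hopen.inter ht) htne
  by_cases hpq : p = q
  · exact ⟨p, hpO.1, hpO.2, hpq ▸ hqO.2⟩
  obtain ⟨τ, hτ, hτ0, hτ1⟩ := hU.2.2 p q p.2 q.2 hp hq fun h => hpq (Subtype.ext h)
  have := isPreconnected_orth Fan.two
  let f : Fan.Orth Fan.two → U := fun w => ⟨Fan.P.mk τ w, hτ ⟨w, rfl⟩⟩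
  have hseg : Set.range f ⊆ {z : U | P (Φ z)} := by
    rintro _ ⟨w, rfl⟩
    refine hP _ _ (segment_le hΦ τ hτ w) ?_
    rcases min_choice (Φ ⟨_, hτ ⟨Fan.Orth.basis _ 0, rfl⟩⟩) (Φ ⟨_, hτ ⟨Fan.Orth.basis _ 1, rfl⟩⟩) with h | h <;>
      rw [h]
    · exact (congrArg (fun z : U => P (Φ z))
        (Subtype.ext hτ0 : (⟨_, hτ ⟨Fan.Orth.basis _ 0, rfl⟩⟩ : U) = p)).mpr hpO.1
    · exact (congrArg (fun z : U => P (Φ z))
        (Subtype.ext hτ1 : (⟨_, hτ ⟨Fan.Orth.basis _ 1, rfl⟩⟩ : U) = q)).mpr hqO.1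
  obtain ⟨z, hz, hz'⟩ := isPreconnected_range (f := f) ((continuous_mk τ).subtype_mk _) s t hs ht
    (hseg.trans hsub) ⟨p, ⟨Fan.Orth.basis _ 0, Subtype.ext hτ0⟩, hpO.2⟩
    ⟨q, ⟨Fan.Orth.basis _ 1, Subtype.ext hτ1⟩, hqO.2⟩
  exact ⟨z, hseg hz, hz'⟩

theorem eq_of_localMax (hT2 : T2Space (Fan.P F)) (hUc : IsCompact U) (hU : Fan.IsConvex U)
    [TopologicalSpace Γ] [OrderTopology Γ] (hΦc : Continuous Φ) (hΦ : Fan.IsStrictQuasiConcaveOn U Φ)
    (x y : U) (hxy : Φ x ≤ Φ y) (hx : IsLocalMax Φ x) : x = y := by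
  by_contra hne
  have : CompactSpace U := isCompact_iff_compactSpace.1 hUc
  have hS : IsClosed {z : U | Φ x ≤ Φ z} := isClosed_le continuous_const hΦc
  -- `x` is not isolated in the super-level set
  have hacc : x ∈ closure ({z : U | Φ x ≤ Φ z} \ {x}) := by
    by_contra hcl
    obtain ⟨W, hW, hxW, hdis⟩ : ∃ W : Set U, IsOpen W ∧ x ∈ W ∧ ∀ z ∈ W, Φ x ≤ Φ z → z = x :=
      ⟨(closure ({z : U | Φ x ≤ Φ z} \ {x}))ᶜ, isClosed_closure.isOpen_compl, hcl,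
        fun z hz hz' => by_contra fun hzx => hz (subset_closure ⟨hz', hzx⟩)⟩
    obtain ⟨O, hO, hxO, hOW⟩ : ∃ O : Set U, IsOpen O ∧ x ∈ O ∧ closure O ⊆ W := by
      obtain ⟨C, hC, hCcl, hCW⟩ := exists_mem_nhds_isClosed_subset (hW.mem_nhds hxW)
      exact ⟨interior C, isOpen_interior, mem_interior_iff_mem_nhds.2 hC,
        (hCcl.closure_subset_iff.2 interior_subset).trans hCW⟩
    have hyO : y ∉ closure O := fun h => hne (hdis y (hOW h) hxy).symm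
    have hfr : ∀ P : Γ → Prop, (∀ a b, a ≤ b → P a → P b) → IsOpen {z : U | P (Φ z)} → P (Φ x) →
        ∃ z ∈ frontier O, P (Φ z) := by
      intro P hP hPo hPx
      by_contra hcon
      push Not at hcon
      have hsub : {z : U | P (Φ z)} ⊆ O ∪ (closure O)ᶜ := fun z hz => by
        by_cases hzc : z ∈ closure O
        · exact Or.inl (by_contra fun hzO => hcon z (hO.frontier_eq ▸ ⟨hzc, hzO⟩) hz)
        · exact Or.inr hzc
      obtain ⟨z, -, hz, hz'⟩ := isPreconnected_super hU (strict_imp hΦ) P hP hPo _ _ hO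
        isClosed_closure.isOpen_compl hsub ⟨x, hPx, hxO⟩ ⟨y, hP _ _ hxy hPx, hyO⟩
      exact hz' (subset_closure hz)
    obtain ⟨z, hz, -⟩ := hfr (fun _ => True) (fun _ _ _ h => h) isOpen_univ trivial
    obtain ⟨z₀, hz₀, hz₀max⟩ :=
      (isClosed_frontier.isCompact).exists_isMaxOn ⟨z, hz⟩ hΦc.continuousOn
    have hlt : Φ z₀ < Φ x := lt_of_not_ge fun h => by
      obtain rfl := hdis z₀ (hOW (frontier_subset_closure hz₀)) h
      exact (hO.frontier_eq ▸ hz₀ : _ ∈ closure O \ O).2 hxO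
    obtain ⟨z₁, hz₁, hz₁'⟩ := hfr (fun a => Φ z₀ < a) (fun _ _ h h' => h'.trans_le h)
      (isOpen_lt continuous_const hΦc) hlt
    exact (hz₀max hz₁).not_gt hz₁'
  -- some rational simplex already sees the accumulation
  let T : Set (Fan.P F) := Subtype.val '' ({z : U | Φ x ≤ Φ z} \ {x})
  have hSP : IsClosed (Subtype.val '' {z : U | Φ x ≤ Φ z}) :=
    hUc.isClosed.isClosedEmbedding_subtypeVal.isClosedMap _ hS
  obtain ⟨n, ξ, hξ⟩ : ∃ (n : ICone) (ξ : F.obj (op n)), ¬IsClosed (T ∩ Fan.P.cell ξ) := by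
    by_contra hcon
    push Not at hcon
    have hT : IsClosed T := (isClosed_iff T).2 fun n ξ => by
      have : Fan.P.mk ξ ⁻¹' (T ∩ Fan.P.cell ξ) = Fan.P.mk ξ ⁻¹' T := by
        ext v
        simp [Fan.P.cell]
      exact this ▸ (hcon n ξ).preimage (continuous_mk ξ)
    obtain ⟨z, hz, hzx⟩ := hT.closure_subset (mem_closure_image continuous_subtype_val.continuousAt hacc)
    exact hz.2 (Subtype.ext hzx)
  have hcellc : IsClosed (Fan.P.cell ξ) := by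
    have : Fan.P.cell ξ = Fan.P.mk ξ '' simplex n := by
      ext p
      refine ⟨fun ⟨v, hv⟩ => ⟨nrm v, nrm_mem_simplex v, (mk_nrm ξ v).trans hv⟩, fun ⟨v, _, hv⟩ => ⟨v, hv⟩⟩
    exact this ▸ ((isCompact_simplex n).image (continuous_mk ξ)).isClosed
  have hxcl : (x : Fan.P F) ∈ closure (T ∩ Fan.P.cell ξ) := by
    by_contra h
    refine hξ (closure_subset_iff_isClosed.1 fun p hp => ?_)
    obtain ⟨⟨z, hz, rfl⟩, hpc⟩ := (closure_minimal (Set.inter_subset_inter_left _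
      (Set.image_mono Set.sdiff_subset)) (hSP.inter hcellc)) hp
    refine ⟨⟨z, ⟨hz, fun hzx => h ?_⟩, rfl⟩, hpc⟩
    rw [Set.mem_singleton_iff] at hzx
    exact hzx ▸ hp
  -- pick the accumulation inside the simplex
  let B : Set (Fan.Orth n) := simplex n ∩ Fan.P.mk ξ ⁻¹' T
  have hBc : IsCompact (closure B) :=
    (isCompact_simplex n).of_isClosed_subset isClosed_closure (closure_minimal Set.inter_subset_left
      (isClosed_eq (continuous_finsetSum _ fun i _ => (continuous_apply i).comp continuous_orth_val) continuous_const))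
  have hsub : T ∩ Fan.P.cell ξ ⊆ Fan.P.mk ξ '' closure B := by
    rintro p ⟨hpT, v, hv⟩
    exact ⟨nrm v, subset_closure ⟨nrm_mem_simplex v, by rwa [Set.mem_preimage, mk_nrm, hv]⟩,
      (mk_nrm ξ v).trans hv⟩
  obtain ⟨v₀, hv₀, hv₀x⟩ := closure_minimal hsub (hBc.image (continuous_mk ξ)).isClosed hxcl
  obtain ⟨W, hW, hWmax⟩ := mem_nhds_induced _ _ _ |>.1 (show {z : U | Φ z ≤ Φ x} ∈ 𝓝 x from hx)
  have hmid : Tendsto (fun b : Fan.Orth n => (2⁻¹ : ℝ) • (v₀.1 + b.1)) (𝓝 v₀) (𝓝 v₀.1) := by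
    have := ((continuous_const.add (continuous_orth_val (n := n))).const_smul (2⁻¹ : ℝ)).tendsto v₀
      (f := fun b : Fan.Orth n => (2⁻¹ : ℝ) • (v₀.1 + b.1))
    rwa [← two_smul ℝ, smul_smul, inv_mul_cancel₀ two_ne_zero, one_smul] at this
  let mid : Fan.Orth n → Fan.Orth n := fun b => ⟨(2⁻¹ : ℝ) • (v₀.1 + b.1),
    fun i => mul_nonneg (by norm_num) (add_nonneg (v₀.2.1 i) (b.2.1 i)), fun h => v₀.2.2 (funext fun i => by
      have h1 := congrFun h i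
      simp only [Pi.smul_apply, Pi.add_apply, smul_eq_mul, Pi.zero_apply] at h1 ⊢
      linarith [v₀.2.1 i, b.2.1 i])⟩
  have hpre : (Fan.P.mk ξ ∘ mid) ⁻¹' W ∈ 𝓝 v₀ :=
    (((continuous_mk ξ).tendsto v₀).comp (tendsto_subtype_rng.2 hmid)) (by rw [hv₀x]; exact hW)
  obtain ⟨b, hbW, hb⟩ := mem_closure_iff_nhds.1 hv₀ _ hpre
  obtain ⟨z, ⟨hzS, hzx⟩, hzb⟩ := hb.2
  have hprop : ¬∃ c : ℝ, b.1 = c • v₀.1 := by
    rintro ⟨c, hc⟩
    have hv1 : ∑ i, v₀.1 i = 1 := by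
      have : v₀ ∈ simplex n := (closure_minimal Set.inter_subset_left
        (isClosed_eq (continuous_finsetSum _ fun i _ => (continuous_apply i).comp continuous_orth_val)
          continuous_const)) hv₀
      exact this
    have hb1 : ∑ i, b.1 i = 1 := hb.1
    rw [hc] at hb1
    simp only [Pi.smul_apply, smul_eq_mul, ← Finset.mul_sum, hv1, mul_one] at hb1
    rw [hb1, one_smul] at hc
    exact hzx (Subtype.ext (hzb.trans ((congrArg (Fan.P.mk ξ) (orth_ext hc)).trans hv₀x)))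
  have h₀ : Fan.P.mk ξ v₀ ∈ U := hv₀x ▸ x.2
  have h₂ : Fan.P.mk ξ b ∈ U := hzb ▸ z.2
  have hbt : ∃ a c : ℝ, 0 < a ∧ 0 < c ∧ (mid b).1 = a • v₀.1 + c • b.1 :=
    ⟨2⁻¹, 2⁻¹, by norm_num, by norm_num, smul_add _ _ _⟩
  have h₁ : Fan.P.mk ξ (mid b) ∈ U := hU.1 n ξ v₀ (mid b) b h₀ h₂ hbt
  have h := hΦ n ξ v₀ (mid b) b h₀ h₁ h₂ hprop hbt
  rw [show (⟨_, h₀⟩ : U) = x from Subtype.ext hv₀x, show (⟨_, h₂⟩ : U) = z from Subtype.ext hzb.symm,
    min_eq_left hzS] at h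
  exact (hWmax (show (⟨_, h₁⟩ : U).1 ∈ W from hbW)).not_gt h

end Groth.Agent.Lib.Fans
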