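import Groth.Prelude.Def_W4c6instabfans3FanCvx
import Groth.Agent.Lib.Fans.QS
import Mathlib.Analysis.Normed.Module.Basic
import Mathlib.Analysis.Normed.Group.Constructions

/-!
# The fan of a family of cones in a lattice, and its realization
-/

open CategoryTheory Opposite Filter Topology

noncomputable section

namespace Groth.Agent.Lib.Fans

open Instab

variable {N : ℕ} {ι : Type} {K : ι → Set (Fin N → ℝ)} {n : ICone}

lemma toVec_eq (φ : RFan.Cone K n) (v : Fin n.dim → ℝ) : RFan.toVec K n φ v = rext φ.1 v := rfl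

lemma toVec_ne (φ : RFan.Cone K n) (v : Fan.Orth n) : RFan.toVec K n φ v.1 ≠ 0 := fun h =>
  v.2.2 (rext_injective φ.2.1 (h.trans (map_zero _).symm))

lemma rext_comp {k n : ICone} (f : (Fin n.dim → ℤ) →ₗ[ℤ] (Fin N → ℤ)) (κ : k ⟶ n) (v : Fin k.dim → ℝ) :
    rext (f.comp κ.toLin) v = rext f (κ.realMap v) := by
  have : rext (f.comp κ.toLin) = (rext f).comp (rlin κ) := linearMap_ext_single fun i => by
    have hs : (Pi.single i 1 : Fin k.dim → ℝ) = rv (Pi.single i 1 : Fin k.dim → ℤ) := by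
      funext j
      simp [rv, Pi.single_apply, apply_ite (Int.cast : ℤ → ℝ)]
    rw [LinearMap.comp_apply, rlin_apply, hs, rext_rv, realMap_rv, rext_rv, LinearMap.comp_apply]
  exact LinearMap.congr_fun this v

/-- The canonical map to rays. -/
def toRays (K : ι → Set (Fin N → ℝ)) : Fan.P (RFan K) → Fan.Rays N :=
  Quot.lift (fun p => Quot.mk _ ⟨RFan.toVec K p.1.1 p.1.2 p.2.1, toVec_ne p.1.2 p.2⟩) (by
    rintro _ _ ⟨φ, ξ, v, w, c, hc, h⟩
    refine Quot.sound ⟨c, hc, ?_⟩
    change rext ξ.1 w.1 = c • rext (ξ.1.comp φ.toLin) v.1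
    rw [rext_comp, h, map_smul])

lemma toRays_mk (φ : RFan.Cone K n) (v : Fan.Orth n) :
    toRays K (Fan.P.mk (F := RFan K) φ v) = Quot.mk _ ⟨RFan.toVec K n φ v.1, toVec_ne φ v⟩ := rfl

/-- The unit representative of a ray. -/
def unit : Fan.Rays N → (Fin N → ℝ) :=
  Quot.lift (fun w => ‖w.1‖⁻¹ • w.1) (by
    rintro v w ⟨c, hc, h⟩
    rw [h, norm_smul, Real.norm_eq_abs, abs_of_pos hc, smul_smul]
    congr 1
    field_simp)

lemma continuous_unit : Continuous (unit (N := N)) :=
  continuous_quot_lift _ ((continuous_subtype_val.norm.inv₀ fun w => norm_ne_zero_iff.2 w.2).smul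
    continuous_subtype_val)

lemma exists_smul_of_unit {v w : {v : Fin N → ℝ // v ≠ 0}} (h : ‖v.1‖⁻¹ • v.1 = ‖w.1‖⁻¹ • w.1) :
    ∃ c : ℝ, 0 < c ∧ w.1 = c • v.1 := by
  refine ⟨‖w.1‖ * ‖v.1‖⁻¹, mul_pos (norm_pos_iff.2 w.2) (inv_pos.2 (norm_pos_iff.2 v.2)), ?_⟩
  rw [mul_smul, h, smul_smul, mul_inv_cancel₀ (norm_ne_zero_iff.2 w.2), one_smul]

lemma unit_injective : Function.Injective (unit (N := N)) := by
  intro r r'
  refine Quot.induction_on₂ r r' fun v w h => ?_
  exact Quot.sound (exists_smul_of_unit h)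

lemma continuous_toRays : Continuous (toRays K) := by
  refine continuous_quot_lift _ (continuous_quot_mk.comp (continuous_sigma fun e => ?_))
  refine Continuous.subtype_mk ?_ _
  exact (rext e.2.1).continuous_of_finiteDimensional.comp continuous_orth_val

lemma toRays_injective : Function.Injective (toRays K) := by
  intro x y hxy
  obtain ⟨i, φ, v, rfl⟩ := exists_rep x
  obtain ⟨j, ψ, w, rfl⟩ := exists_rep y
  obtain ⟨c, hc, h⟩ := exists_smul_of_unit (congrArg unit hxy)
  obtain ⟨p, κ, κ', z, hκ, hy, hz⟩ := exists_common_lattice φ.1 φ.2.1 ψ.1 ψ.2.1 (scl c hc v) w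
    (by rw [scl_val, map_smul]; exact h.symm)
  refine eq_of_common ⟨p, κ, κ', z, 1 / c, 1, Subtype.ext hκ, by positivity, one_pos, ?_, ?_⟩
  · rw [← omap_val κ, hy, scl_val, smul_smul, one_div_mul_cancel hc.ne', one_smul]
  · rw [← omap_val κ', hz, one_smul]

/-- The realization of `R(K)` is the space of rays through the union of the cones. -/
theorem toRays_isEmbedding [Finite ι]
    (hK : ∀ a, ∃ (m : ℕ) (gen : Fin m → Finset (Fin N → ℤ)),
      K a = Set.iUnion fun l => {x | ∃ c : (Fin N → ℤ) → ℝ, (∀ g, 0 ≤ c g) ∧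
        x = Finset.sum (gen l) fun g => c g • fun j => (g j : ℝ)}) :
    IsEmbedding (toRays K) ∧
      Set.range (toRays K) =
        {r | ∃ w : {w : Fin N → ℝ // w ≠ 0}, r = Quot.mk _ w ∧ w.1 ∈ Set.iUnion K} := by
  classical
  choose m gen hgen using hK
  let E : Set (Σ n : ICone, RFan.Cone K n) :=
    {e | ∃ a l, ∀ i, e.2.1 (Pi.single i 1) ∈ gen a l}
  -- finitely many generating cones
  have hE : E.Finite := by
    have := Fintype.ofFinite ι
    let G : Finset (Fin N → ℤ) := Finset.univ.biUnion fun a => Finset.univ.biUnion (gen a)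
    let f : E → (Σ d : Fin (G.card + 1), Fin d.1 → G) := fun e => by
      have hmem : ∀ i, e.1.2.1 (Pi.single i 1) ∈ G := fun i => by
        obtain ⟨a, l, h⟩ := e.2
        exact Finset.mem_biUnion.2 ⟨a, Finset.mem_univ _, Finset.mem_biUnion.2 ⟨l, Finset.mem_univ _, h i⟩⟩
      have hinj : Function.Injective fun i => (⟨_, hmem i⟩ : G) := fun i j hij => by
        have h1 := congrFun (e.1.2.2.1 (congrArg Subtype.val hij)) j
        by_contra hne
        simp [Ne.symm hne] at h1
      exact ⟨⟨(e.1.1.dim : ℕ), Nat.lt_succ_of_le (by simpa using Fintype.card_le_of_injective _ hinj)⟩,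
        fun i => ⟨_, hmem i⟩⟩
    have hf : Function.Injective f := by
      rintro ⟨⟨⟨d⟩, φ, hφ⟩, he⟩ ⟨⟨⟨d'⟩, φ', hφ'⟩, he'⟩ h
      obtain rfl : d = d' := PNat.coe_injective (congrArg (fun q => q.1.1) h)
      have h2 := eq_of_heq (Sigma.mk.inj h).2
      have : φ = φ' := LinearMap.pi_ext fun i x => by
        rw [show (Pi.single i x : Fin (d : ℕ) → ℤ) = x • Pi.single i 1 by simp [← Pi.single_smul],
          map_smul, map_smul]
        exact congrArg (x • ·) (congrArg Subtype.val (congrFun h2 i))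
      subst this
      rfl
    have := Finite.of_injective f hf
    exact Set.toFinite E
  let C : Set (Fan.P (RFan K)) := ⋃ e ∈ E, Fan.P.mk (F := RFan K) e.2 '' simplex e.1
  have hC : IsCompact C := hE.isCompact_biUnion fun e _ => (isCompact_simplex _).image (continuous_mk _)
  have : T2Space (Fan.Rays N) := .of_injective_continuous unit_injective continuous_unit
  -- every ray of the union is reached from a generating cone
  have hsurj : ∀ w : {w : Fin N → ℝ // w ≠ 0}, w.1 ∈ Set.iUnion K → Quot.mk _ w ∈ toRays K '' C := by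
    rintro ⟨w, hw0⟩ hw
    obtain ⟨a, ha⟩ := Set.mem_iUnion.1 hw
    rw [hgen a, Set.mem_iUnion] at ha
    obtain ⟨l, c, hc, rfl⟩ := ha
    let u : Fin (gen a l).card → (Fin N → ℤ) := fun i => ((gen a l).equivFin.symm i).1
    obtain ⟨s, hs, d, hd, hsum⟩ := exists_indep_combination (fun i => rv (u i)) (fun i => c (u i)) (fun i => hc _)
    have hsum' : ∑ i, c (u i) • rv (u i) = (gen a l).sum fun g => c g • fun j => (g j : ℝ) := by
      rw [← Finset.sum_coe_sort (gen a l)]
      exact Fintype.sum_equiv (gen a l).equivFin.symm _ _ fun i => rfl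
    have hne : 0 < s.card := Finset.card_pos.2 (Finset.nonempty_iff_ne_empty.2 fun h => hw0 (by
      rw [← hsum', ← hsum, h, Finset.sum_empty]))
    let k : ICone := ⟨⟨s.card, hne⟩⟩
    let b : Fin k.dim → Fin N → ℤ := fun i => u (s.equivFin.symm i).1
    have hb : LinearIndependent ℝ fun i => rv (b i) := hs.comp _ s.equivFin.symm.injective
    let f : (Fin k.dim → ℤ) →ₗ[ℤ] (Fin N → ℤ) := Fintype.linearCombination ℤ b
    have hfb : ∀ i, f (Pi.single i 1) = b i := fun i =>
      (Fintype.linearCombination_apply_single (R := ℤ) (v := b) i 1).trans (one_smul ℤ _)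
    have hfinj : Function.Injective f := by
      refine (injective_iff_map_eq_zero _).2 fun z hz => ?_
      have h0 : ∑ i, (z i : ℝ) • rv (b i) = 0 := by
        funext j
        have := congrArg (fun t : ℤ => (t : ℝ)) (congrFun hz j)
        simpa [f, Fintype.linearCombination_apply, rv] using this
      funext i
      exact_mod_cast Fintype.linearIndependent_iff.1 hb (fun i => (z i : ℝ)) h0 i
    have hfK : ∀ v : Fin k.dim → ℤ, (∀ i, 0 ≤ v i) → (fun j => (f v j : ℝ)) ∈ K a := by
      intro v hv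
      rw [hgen a, Set.mem_iUnion]
      refine ⟨l, fun g => ∑ i, if b i = g then (v i : ℝ) else 0,
        fun g => Finset.sum_nonneg fun i _ => by split <;> [exact Int.cast_nonneg (hv i); exact le_rfl], ?_⟩
      simp only [Finset.sum_smul, ite_smul, zero_smul]
      rw [Finset.sum_comm]
      simp only [Finset.sum_ite_eq, show ∀ i, b i ∈ gen a l from fun i => ((gen a l).equivFin.symm _).2, if_true]
      funext j
      simp [f, Fintype.linearCombination_apply]
    let φ : RFan.Cone K k := ⟨f, hfinj, a, hfK⟩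
    have hd' : ∀ i, 0 < d (s.equivFin.symm i).1 := fun i => hd _ (s.equivFin.symm i).2
    let v : Fan.Orth k := ⟨fun i => d (s.equivFin.symm i).1, fun i => (hd' i).le,
      fun h => (hd' ⟨0, hne⟩).ne' (congrFun h ⟨0, hne⟩)⟩
    refine ⟨Fan.P.mk (F := RFan K) φ (nrm v), Set.mem_biUnion (x := ⟨k, φ⟩) ⟨a, l, fun i => ?_⟩
      ⟨_, nrm_mem_simplex v, rfl⟩, ?_⟩
    · change f (Pi.single i 1) ∈ gen a l
      rw [hfb]
      exact ((gen a l).equivFin.symm _).2
    rw [mk_nrm, toRays_mk]
    refine congrArg _ (Subtype.ext ?_)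
    change rext f v.1 = _
    refine Eq.trans ?_ (hsum.trans hsum')
    rw [← Finset.sum_coe_sort s]
    funext j
    simp only [rext_apply, hfb, Finset.sum_apply, Pi.smul_apply, smul_eq_mul]
    refine Fintype.sum_equiv s.equivFin.symm _ _ fun i => ?_
    change (b i j : ℝ) * d _ = d _ * (b i j : ℝ)
    exact mul_comm _ _
  -- every cone lands in the rays of the union
  have hcells : ∀ x, toRays K x ∈ toRays K '' C := by
    intro x
    obtain ⟨n, φ, v, rfl⟩ := exists_rep x
    refine (Set.eq_univ_iff_forall.1 (eq_univ_of_integral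
      (S := (fun u => toRays K (Fan.P.mk (F := RFan K) φ u)) ⁻¹' (toRays K '' C))
      (((hC.image continuous_toRays).isClosed).preimage (continuous_toRays.comp (continuous_mk _)))
      (fun u c hc hu => by rwa [Set.mem_preimage, mk_scl]) (fun z h0 hz => ?_))) v
    rw [Set.mem_preimage, toRays_mk]
    refine hsurj _ ?_
    obtain ⟨a, ha⟩ := φ.2.2
    refine Set.mem_iUnion.2 ⟨a, ?_⟩
    change rext φ.1 (rv z) ∈ K a
    rw [rext_rv]
    exact ha z h0
  have hCuniv : C = Set.univ := Set.eq_univ_of_forall fun x => by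
    obtain ⟨y, hy, hyx⟩ := hcells x
    exact toRays_injective hyx ▸ hy
  have : CompactSpace (Fan.P (RFan K)) := ⟨hCuniv ▸ hC⟩
  refine ⟨(continuous_toRays.isClosedEmbedding toRays_injective).isEmbedding, Set.ext fun r => ⟨?_, ?_⟩⟩
  · rintro ⟨x, rfl⟩
    obtain ⟨y, hy, hyx⟩ := hcells x
    rw [← hyx]
    simp only [C, Set.mem_iUnion₂] at hy
    obtain ⟨⟨k, φ⟩, ⟨a, l, hal⟩, v, -, rfl⟩ := hy
    refine ⟨_, toRays_mk φ v, Set.mem_iUnion.2 ⟨a, ?_⟩⟩
    rw [hgen a, Set.mem_iUnion]
    refine ⟨l, fun g => ∑ i, if φ.1 (Pi.single i 1) = g then v.1 i else 0,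
      fun g => Finset.sum_nonneg fun i _ => by split <;> [exact v.2.1 i; exact le_rfl], ?_⟩
    simp only [Finset.sum_smul, ite_smul, zero_smul]
    rw [Finset.sum_comm]
    simp only [Finset.sum_ite_eq, hal, if_true]
    funext j
    simp [RFan.toVec, mul_comm]
  · rintro ⟨w, rfl, hw⟩
    obtain ⟨y, -, hy⟩ := hsurj w hw
    exact ⟨y, hy⟩

end Groth.Agent.Lib.Fans
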