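import Groth.Agent.Lib.Fans.Basic
import Mathlib.Topology.Algebra.Module.FiniteDimension
import Mathlib.Topology.Maps.Basic
import Mathlib.Analysis.Normed.Field.Lemmas

/-!
# Formal fans: the topology of the realization
-/

open CategoryTheory Opposite Filter Topology
open scoped BigOperators

noncomputable section

universe u

namespace Groth.Agent.Lib.Fans

open Instab

variable {k n m : ICone} {F G : Fan.{u}}

lemma continuous_orth_val : Continuous fun v : Fan.Orth n => v.1 := continuous_subtype_val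

lemma continuous_of_val {X : Type*} [TopologicalSpace X] {f : X → Fan.Orth n}
    (h : Continuous fun x => (f x).1) : Continuous f := h.subtype_mk _

lemma continuous_omap (φ : k ⟶ n) : Continuous (omap φ) :=
  continuous_of_val ((rlin φ).continuous_of_finiteDimensional.comp continuous_orth_val)

lemma continuous_scl (c : ℝ) (hc : 0 < c) : Continuous (scl (n := n) c hc) :=
  continuous_of_val (continuous_orth_val.const_smul c)

lemma isClosedMap_omap (φ : k ⟶ n) : IsClosedMap (omap φ) := by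
  intro S hS
  obtain ⟨C, hC, rfl⟩ := isClosed_induced_iff.1 (show IsClosed[instTopologicalSpaceSubtype] S from hS)
  have hce : IsClosedEmbedding (rlin φ) :=
    (rlin φ).isClosedEmbedding_of_injective (LinearMap.ker_eq_bot.2 (rlin_injective φ))
  have hO : IsClosed {x : Fin k.dim → ℝ | ∀ i, 0 ≤ x i} := by
    simp only [Set.ofPred_forall]
    exact isClosed_iInter fun i => isClosed_le continuous_const (continuous_apply i)
  have : omap φ '' (Subtype.val ⁻¹' C) = (fun v : Fan.Orth n => v.1) ⁻¹'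
      (rlin φ '' (C ∩ {x | ∀ i, 0 ≤ x i})) := by
    ext v
    constructor
    · rintro ⟨y, hy, rfl⟩
      exact ⟨y.1, ⟨hy, y.2.1⟩, rfl⟩
    · rintro ⟨x, ⟨hx, hx0⟩, hxv⟩
      exact ⟨⟨x, hx0, fun h => v.2.2 (hxv.symm.trans ((congrArg (rlin φ) h).trans (map_zero _)))⟩, hx, orth_ext hxv⟩
  exact this ▸ (hce.isClosedMap _ (hC.inter hO)).preimage continuous_orth_val

lemma continuous_mk (ξ : F.obj (op n)) : Continuous (Fan.P.mk ξ) :=
  continuous_quot_mk.comp
    (continuous_sigmaMk (σ := fun e : (Σ n : ICone, F.obj (op n)) => Fan.Orth e.1) (i := ⟨n, ξ⟩))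

lemma isClosed_iff (S : Set (Fan.P F)) :
    IsClosed S ↔ ∀ (n : ICone) (ξ : F.obj (op n)), IsClosed (Fan.P.mk ξ ⁻¹' S) := by
  refine ⟨fun h n ξ => h.preimage (continuous_mk ξ), fun h => ?_⟩
  refine isClosed_coinduced.2 ?_
  refine isClosed_sigma_iff.2 ?_
  rintro ⟨n, ξ⟩
  exact h n ξ

lemma continuous_map (f : F ⟶ G) : Continuous (Fan.P.map f) :=
  continuous_iff_isClosed.2 fun S hS => (isClosed_iff _).2 fun _ ξ =>
    hS.preimage (continuous_mk (f.app _ ξ))

/-- The vector of a nonzero nonnegative integer vector. -/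
def iv (w : Fin n.dim → ℤ) (h0 : ∀ i, 0 ≤ w i) (hw : w ≠ 0) : Fan.Orth n :=
  ⟨rv w, fun i => Int.cast_nonneg (h0 i), fun h => hw (funext fun i => Int.cast_eq_zero.1 (congrFun h i))⟩

/-- A closed, scale invariant set of the orthant containing the integral points is everything. -/
theorem eq_univ_of_integral {S : Set (Fan.Orth n)} (hS : IsClosed S)
    (hscl : ∀ (v : Fan.Orth n) (c : ℝ) (hc : 0 < c), v ∈ S → scl c hc v ∈ S)
    (hint : ∀ (w : Fin n.dim → ℤ) (h0 : ∀ i, 0 ≤ w i) (hw : w ≠ 0), iv w h0 hw ∈ S) : S = Set.univ := by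
  refine Set.eq_univ_of_forall fun v => ?_
  let w : ℕ → Fin n.dim → ℤ := fun N i => ⌈((N : ℝ) + 1) * v.1 i⌉
  have h0 : ∀ N i, 0 ≤ w N i := fun N i => Int.ceil_nonneg (mul_nonneg (by positivity) (v.2.1 i))
  have hw : ∀ N, w N ≠ 0 := fun N h => by
    obtain ⟨i, hi⟩ := Function.ne_iff.1 v.2.2
    have h1 : 0 < v.1 i := lt_of_le_of_ne (v.2.1 i) (Ne.symm hi)
    have h2 : 0 < w N i := Int.ceil_pos.2 (mul_pos (by positivity) h1)
    exact h2.ne' (congrFun h i)
  let u : ℕ → Fan.Orth n := fun N => scl (1 / ((N : ℝ) + 1)) (by positivity) (iv (w N) (h0 N) (hw N))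
  refine hS.mem_of_tendsto (f := u) (b := atTop) ?_ (Eventually.of_forall fun N => hscl _ _ _ (hint _ _ _))
  refine tendsto_subtype_rng.2 (tendsto_pi_nhds.2 fun i => ?_)
  have h1 : Tendsto (fun N : ℕ => v.1 i + 1 / ((N : ℝ) + 1)) atTop (𝓝 (v.1 i)) := by
    simpa using tendsto_const_nhds.add (tendsto_one_div_add_atTop_nhds_zero_nat (𝕜 := ℝ))
  refine tendsto_of_tendsto_of_tendsto_of_le_of_le tendsto_const_nhds h1 (fun N => ?_) (fun N => ?_)
  · change v.1 i ≤ 1 / ((N : ℝ) + 1) * ((⌈((N : ℝ) + 1) * v.1 i⌉ : ℤ) : ℝ)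
    rw [one_div, le_inv_mul_iff₀ (by positivity)]
    exact Int.le_ceil _
  · change 1 / ((N : ℝ) + 1) * ((⌈((N : ℝ) + 1) * v.1 i⌉ : ℤ) : ℝ) ≤ v.1 i + 1 / ((N : ℝ) + 1)
    rw [one_div, inv_mul_le_iff₀ (by positivity), mul_add, mul_inv_cancel₀ (by positivity)]
    exact (Int.ceil_lt_add_one _).le

/-- The ray cone morphism of an integral vector. -/
def rayHom (w : Fin n.dim → ℤ) (h0 : ∀ i, 0 ≤ w i) (hw : w ≠ 0) : Fan.one ⟶ n :=
  homOf (p := 1) n (fun _ => w) (fun _ => h0)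
    (haveI : Unique (Fin ((1 : ℕ+) : ℕ)) := inferInstanceAs (Unique (Fin 1))
     linearIndependent_unique_iff.2 (iv w h0 hw).2.2)

lemma omap_rayHom (w : Fin n.dim → ℤ) (h0 : ∀ i, 0 ≤ w i) (hw : w ≠ 0) :
    omap (rayHom w h0 hw) (Fan.Orth.ones Fan.one) = iv w h0 hw := by
  refine orth_ext ?_
  funext j
  change ∑ i : Fin 1, ((rayHom w h0 hw).toLin (Pi.single i 1) j : ℝ) * 1 = (w j : ℝ)
  rw [Fin.sum_univ_one, mul_one]
  exact congrArg _ (congrFun (homOf_single (p := 1) n (fun _ => w) (fun _ => h0) _ _) j)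

lemma isRational_mk_iv (ξ : F.obj (op n)) (w : Fin n.dim → ℤ) (h0 : ∀ i, 0 ≤ w i) (hw : w ≠ 0) :
    (Fan.P.mk ξ (iv w h0 hw)).IsRational :=
  ⟨F.map (rayHom w h0 hw).op ξ, by rw [mk_glue, omap_rayHom]⟩

lemma map_isRational (f : F ⟶ G) {x : Fan.P F} (hx : x.IsRational) : (Fan.P.map f x).IsRational := by
  obtain ⟨σ, rfl⟩ := hx
  exact ⟨f.app _ σ, rfl⟩

end Groth.Agent.Lib.Fans
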